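import Mathlib
import Cfsg.Prelude.Def_Transfer
import Cfsg.Agent.Lib.Transfer.Basic
import Cfsg.Agent.Lib.Basic.SylowUtil
import Cfsg.Agent.Lib.ClassSize.Basic

set_option autoImplicit false

/-!
# Cyclic Sylow `p`-subgroups with all `p'`-subgroups abelian: the reductions

`Hyp p G`: Sylow `p`-subgroups cyclic, all `p'`-subgroups abelian.
`Con p G`: normal `p`-complement or normal Sylow `p`-subgroup.
-/

namespace Cfsg.Agent.Lib.CycSylow

open Subgroup

universe u

structure Hyp (p : ℕ) (G : Type u) [Group G] : Prop where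
  cyc : ∀ P : Sylow p G, IsCyclic P
  ab : ∀ H : Subgroup G, ¬ p ∣ Nat.card H → IsMulCommutative H

def Con (p : ℕ) (G : Type u) [Group G] : Prop :=
  Cfsg.HasNormalPComplement p G ∨ ∃ P : Sylow p G, (P : Subgroup G).Normal

variable {G : Type u} [Group G] [Finite G] {p : ℕ} [hp : Fact p.Prime]

/-- Commutation from `IsMulCommutative`. -/
theorem comm_of {H : Subgroup G} (h : IsMulCommutative H) {a b : G} (ha : a ∈ H) (hb : b ∈ H) :
    a * b = b * a :=
  congrArg Subtype.val (h.is_comm.comm ⟨a, ha⟩ ⟨b, hb⟩)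

/-- Build `IsMulCommutative` from elementwise commutation. -/
theorem mulComm_of {H : Subgroup G} (h : ∀ a ∈ H, ∀ b ∈ H, a * b = b * a) : IsMulCommutative H :=
  ⟨⟨fun a b => Subtype.ext (h a a.2 b b.2)⟩⟩

/-- An element whose `p`-power order is not one has a power of order exactly `p`. -/
theorem exists_pow_order_p {a : G} (ha : a ≠ 1) {k : ℕ} (hk : orderOf a = p ^ k) :
    ∃ b ∈ zpowers a, orderOf b = p := by
  have hk0 : k ≠ 0 := by
    rintro rfl
    rw [pow_zero, orderOf_eq_one_iff] at hk
    exact ha hk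
  have hd : p ∣ orderOf a := by rw [hk]; exact dvd_pow_self _ hk0
  exact ⟨a ^ (orderOf a / p), (zpowers a).pow_mem (mem_zpowers a) _,
    orderOf_pow_orderOf_div (orderOf_pos a).ne' hd⟩

/-- In a cyclic `p`-subgroup, two elements of order `p` generate the same subgroup. -/
theorem mem_zpowers_of_order_p {P : Subgroup G} (hc : IsCyclic P) {a b : G} (ha : a ∈ P)
    (hb : b ∈ P) (hoa : orderOf a = p) (hob : orderOf b = p) : b ∈ zpowers a := by
  classical
  haveI := Fintype.ofFinite G
  haveI : Fintype P := Fintype.ofFinite _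
  have hle := IsCyclic.card_pow_eq_one_le (α := P) (n := p) hp.out.pos
  let a' : P := ⟨a, ha⟩
  have hoa' : orderOf a' = p := (Subgroup.orderOf_coe a').symm.trans hoa
  -- the powers of `a'` form all solutions of `x ^ p = 1`
  let S : Finset P := Finset.univ.filter fun x => x ^ p = 1
  have hpow : (Finset.univ.filter fun x : P => x ∈ zpowers a') ⊆ S := by
    intro x hx
    simp only [Finset.mem_filter, Finset.mem_univ, true_and] at hx
    obtain ⟨i, rfl⟩ := hx
    simp only [S, Finset.mem_filter, Finset.mem_univ, true_and]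
    rw [← zpow_natCast, ← zpow_mul, mul_comm, zpow_mul, zpow_natCast, ← hoa', pow_orderOf_eq_one,
      one_zpow]
  have hcard : (Finset.univ.filter fun x : P => x ∈ zpowers a').card = p := by
    have : (Finset.univ.filter fun x : P => x ∈ zpowers a').card = Nat.card (zpowers a') := by
      rw [Nat.card_eq_fintype_card, Fintype.card_subtype]
    rw [this, Nat.card_zpowers, hoa']
  have heq := Finset.eq_of_subset_of_card_le hpow (by rw [hcard]; exact hle)
  have hbS : (⟨b, hb⟩ : P) ∈ S := by
    simp only [S, Finset.mem_filter, Finset.mem_univ, true_and]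
    apply Subtype.ext
    simp only [SubmonoidClass.mk_pow, OneMemClass.coe_one]
    rw [← hob, pow_orderOf_eq_one]
  rw [← heq] at hbS
  simp only [Finset.mem_filter, Finset.mem_univ, true_and] at hbS
  obtain ⟨i, hi⟩ := hbS
  refine ⟨i, ?_⟩
  have := congrArg Subtype.val hi
  simpa using this

/-- A `p'`-element normalizing a cyclic `p`-subgroup and not centralizing it acts fixed point
freely, and every element of the subgroup is a commutator with it. -/
theorem fpf {P : Subgroup G} (hP : IsPGroup p P) (hc : IsCyclic P) {y : G}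
    (hy : y ∈ normalizer (P : Set G)) (hyo : (orderOf y).Coprime p)
    (hyc : y ∉ centralizer (P : Set G)) :
    (∀ v ∈ P, y * v * y⁻¹ = v → v = 1) ∧ (∀ v ∈ P, ∃ u ∈ P, v = y * u * y⁻¹ * u⁻¹) := by
  classical
  have hconj : ∀ v ∈ P, y * v * y⁻¹ ∈ P := fun v hv => (mem_normalizer_iff.mp hy v).1 hv
  have hcomm : ∀ a ∈ P, ∀ b ∈ P, a * b = b * a := by
    intro a ha b hb
    have := (IsCyclic.commGroup (α := P)).mul_comm ⟨a, ha⟩ ⟨b, hb⟩
    exact congrArg Subtype.val this
  -- the commutator map
  let f : P →* P := MonoidHom.mk' (fun v => ⟨y * v * y⁻¹ * (v : G)⁻¹,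
      P.mul_mem (hconj v v.2) (P.inv_mem v.2)⟩) (by
    intro a b
    apply Subtype.ext
    simp only [Subgroup.coe_mul]
    have h1 := hcomm _ (hconj b b.2) _ (P.inv_mem a.2)
    have h2 := hcomm _ b.2 _ a.2
    have : y * (a * b : G) * y⁻¹ * ((a : G) * b)⁻¹
        = (y * a * y⁻¹) * (y * b * y⁻¹) * ((b : G)⁻¹ * (a : G)⁻¹) := by group
    rw [this]
    have h3 := hcomm _ (P.inv_mem b.2) _ (P.inv_mem a.2)
    calc (y * a * y⁻¹) * (y * b * y⁻¹) * ((b : G)⁻¹ * (a : G)⁻¹)
        = (y * a * y⁻¹) * (y * b * y⁻¹) * ((a : G)⁻¹ * (b : G)⁻¹) := by rw [h3]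
      _ = (y * a * y⁻¹) * ((y * b * y⁻¹) * (a : G)⁻¹) * (b : G)⁻¹ := by group
      _ = (y * a * y⁻¹) * ((a : G)⁻¹ * (y * b * y⁻¹)) * (b : G)⁻¹ := by rw [h1]
      _ = _ := by group)
  have hf : ∀ v : P, (f v : G) = y * v * y⁻¹ * (v : G)⁻¹ := fun v => rfl
  -- iterating: if `c = [y,v]` is fixed by `y` then `y^n v y^-n = c^n v`
  have hfix : ∀ v : P, y * (f v : G) * y⁻¹ = f v → f v = 1 := by
    intro v hv
    set c : G := ((f v : P) : G) with hcdef
    have hst : ∀ n : ℕ, y ^ n * (v : G) * (y ^ n)⁻¹ = c ^ n * v := by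
      intro n
      induction n with
      | zero => simp
      | succ n ih =>
        have h1 : y * (v : G) * y⁻¹ = c * v := by rw [hcdef, hf]; group
        have hcy : y * c = c * y := by
          calc y * c = (y * c * y⁻¹) * y := by group
            _ = c * y := by rw [hv]
        have hcyn : y ^ n * c * (y ^ n)⁻¹ = c := by
          have : Commute (y ^ n) c := (show Commute y c from hcy).pow_left n
          rw [this.eq]; group
        calc y ^ (n + 1) * (v : G) * (y ^ (n + 1))⁻¹
            = y ^ n * (y * v * y⁻¹) * (y ^ n)⁻¹ := by rw [pow_succ]; group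
          _ = y ^ n * (c * v) * (y ^ n)⁻¹ := by rw [h1]
          _ = (y ^ n * c * (y ^ n)⁻¹) * (y ^ n * v * (y ^ n)⁻¹) := by group
          _ = c * (c ^ n * v) := by rw [hcyn, ih]
          _ = c ^ (n + 1) * v := by rw [pow_succ']; group
    have h2 := hst (orderOf y)
    rw [pow_orderOf_eq_one] at h2
    have h3 : c ^ orderOf y = 1 := by
      have : (1 : G) * v * (1 : G)⁻¹ = v := by group
      rw [this] at h2
      have h4 : (v : G) * (v : G)⁻¹ = c ^ orderOf y * v * (v : G)⁻¹ := by rw [← h2]
      simpa using h4.symm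
    obtain ⟨k, hk⟩ := (IsPGroup.iff_orderOf.mp hP) (f v)
    have hk' : orderOf c = p ^ k := (Subgroup.orderOf_coe _).trans hk
    have hd : orderOf c ∣ orderOf y := orderOf_dvd_of_pow_eq_one h3
    have hcop : Nat.Coprime (orderOf c) (orderOf y) := by
      rw [hk']; exact Nat.Coprime.pow_left k hyo.symm
    have h1c : orderOf c = 1 := Nat.Coprime.eq_one_of_dvd hcop hd
    apply Subtype.ext
    exact orderOf_eq_one_iff.mp h1c
  -- `f` is injective: otherwise both range and kernel contain the order `p` subgroup.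
  have hinj : ∀ v : P, y * (v : G) * y⁻¹ = v → (v : G) = 1 := by
    intro v hv
    by_contra hv1
    have hv1' : (v : G) ≠ 1 := hv1
    -- some element is moved
    have hex : ∃ u ∈ P, y * u * y⁻¹ ≠ u := by
      by_contra hno
      push Not at hno
      apply hyc
      rw [mem_centralizer_iff]
      intro u hu
      have := hno u hu
      calc u * y = (y * u * y⁻¹) * y := by rw [this]
        _ = y * u := by group
    obtain ⟨u, hu, hmove⟩ := hex
    have hfu : f ⟨u, hu⟩ ≠ 1 := by
      intro h
      have := congrArg Subtype.val h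
      rw [hf] at this
      apply hmove
      simpa [mul_inv_eq_one] using this
    have hfu' : (f ⟨u, hu⟩ : G) ≠ 1 := fun h => hfu (Subtype.ext h)
    obtain ⟨k₁, hk₁⟩ := (IsPGroup.iff_orderOf.mp hP) v
    obtain ⟨k₂, hk₂⟩ := (IsPGroup.iff_orderOf.mp hP) (f ⟨u, hu⟩)
    have hk₁' : orderOf (v : G) = p ^ k₁ := (Subgroup.orderOf_coe v).trans hk₁
    have hk₂' : orderOf ((f ⟨u, hu⟩ : P) : G) = p ^ k₂ := (Subgroup.orderOf_coe _).trans hk₂
    obtain ⟨a, ha, hoa⟩ := exists_pow_order_p hv1' hk₁'
    obtain ⟨b, hb, hob⟩ := exists_pow_order_p hfu' hk₂'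
    have haP : a ∈ P := (zpowers_le.mpr v.2) ha
    have hbP : b ∈ P := (zpowers_le.mpr (f ⟨u, hu⟩).2) hb
    have hba : b ∈ zpowers a := mem_zpowers_of_order_p hc haP hbP hoa hob
    -- `b` is fixed by `y` since `a` is a power of `v`
    have hvy : Commute y (v : G) := by
      show y * v = v * y
      calc y * (v : G) = (y * v * y⁻¹) * y := by group
        _ = v * y := by rw [hv]
    have hay : Commute y a := by
      obtain ⟨i, rfl⟩ := ha
      exact hvy.zpow_right i
    have hby : Commute y b := by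
      obtain ⟨i, rfl⟩ := hba
      exact hay.zpow_right i
    -- `b` lies in the range of `f`
    obtain ⟨i, hi⟩ := hb
    have hbf : b = f (⟨u, hu⟩ ^ i) := by
      have : (f (⟨u, hu⟩ ^ i) : G) = ((f ⟨u, hu⟩ : P) ^ i : P) := by rw [map_zpow]
      rw [this, ← hi]
      simp
    have hbfix : y * (f (⟨u, hu⟩ ^ i) : G) * y⁻¹ = f (⟨u, hu⟩ ^ i) := by
      rw [← hbf, hby.eq]; group
    have hthis := hfix _ hbfix
    have hb1 : b = 1 := by
      rw [hbf, hthis]; rfl
    rw [hb1, orderOf_one] at hob
    exact hp.out.one_lt.ne hob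
  refine ⟨fun v hv h => hinj ⟨v, hv⟩ h, ?_⟩
  have hfinj : Function.Injective f := by
    rw [injective_iff_map_eq_one]
    intro v hv
    apply Subtype.ext
    apply hinj
    have := congrArg Subtype.val hv
    rw [hf] at this
    simpa [mul_inv_eq_one] using this
  have hfsur : Function.Surjective f := Finite.surjective_of_injective hfinj
  intro v hv
  obtain ⟨u, hu⟩ := hfsur ⟨v, hv⟩
  exact ⟨u, u.2, (congrArg Subtype.val hu).symm.trans (hf u)⟩

end Cfsg.Agent.Lib.CycSylow
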