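import Mathlib
import Cfsg.Agent.Lib.CycSylow.Basic

set_option autoImplicit false

/-!
# Reductions for `Hyp`/`Con`: subgroups, quotients
-/

namespace Cfsg.Agent.Lib.CycSylow

open Subgroup

universe u

variable {G : Type u} [Group G] [Finite G] {p : ℕ} [hp : Fact p.Prime]

theorem Hyp.sub (h : Hyp p G) (M : Subgroup G) : Hyp p M := by
  refine ⟨fun Q => ?_, fun H hH => ?_⟩
  · obtain ⟨P, hP⟩ := Cfsg.Agent.Lib.Basic.SylowUtil.exists_sylow_ge_map (p := p) Q
    haveI := h.cyc P
    let φ : (Q : Subgroup M) →* (P : Subgroup G) :=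
      { toFun := fun x => ⟨x.1.1, hP ⟨x.1, x.2, rfl⟩⟩
        map_one' := rfl
        map_mul' := fun _ _ => rfl }
    have hφ : Function.Injective φ := by
      intro a b hab
      apply Subtype.ext
      apply Subtype.ext
      have hab' := congrArg Subtype.val hab
      exact hab'
    exact isCyclic_of_injective φ hφ
  · have hcard : Nat.card (H.map M.subtype) = Nat.card H :=
      Subgroup.card_map_of_injective M.subtype_injective
    have := h.ab (H.map M.subtype) (by rwa [hcard])
    refine mulComm_of ?_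
    intro a ha b hb
    apply Subtype.ext
    exact comm_of this ⟨a, ha, rfl⟩ ⟨b, hb, rfl⟩

/-- Order-`p` elements and coprime cardinality. -/
theorem not_dvd_card_of_forall {H : Subgroup G} (h : ∀ x ∈ H, orderOf x = p → False) :
    ¬ p ∣ Nat.card H := by
  intro hd
  obtain ⟨x, hx⟩ := exists_prime_orderOf_dvd_card' p hd
  exact h x.1 x.2 ((Subgroup.orderOf_coe x).trans hx)

theorem coprime_of_not_dvd {n : ℕ} (h : ¬ p ∣ n) : n.Coprime p :=
  ((Nat.Prime.coprime_iff_not_dvd hp.out).mpr h).symm

theorem not_dvd_of_coprime {n : ℕ} (h : n.Coprime p) : ¬ p ∣ n :=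
  (Nat.Prime.coprime_iff_not_dvd hp.out).mp h.symm

/-- `p'`-subgroups of a quotient lift. -/
theorem exists_lift (N : Subgroup G) [N.Normal] (hN : (Nat.card N).Coprime p ∨ IsPGroup p N)
    (X : Subgroup (G ⧸ N)) (hX : ¬ p ∣ Nat.card X) :
    ∃ Y : Subgroup G, ¬ p ∣ Nat.card Y ∧ ∀ x ∈ X, ∃ y ∈ Y, (y : G ⧸ N) = x := by
  have hkey : ∀ g : G, (g : G ⧸ N) ∈ X → orderOf g = p → g ∈ N := by
    intro g hgX hog
    have h1 : (g : G ⧸ N) ^ p = 1 := by
      rw [← QuotientGroup.mk_pow, ← hog, pow_orderOf_eq_one, QuotientGroup.mk_one]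
    by_contra hgN
    have h2 : (g : G ⧸ N) ≠ 1 := by
      rw [Ne, QuotientGroup.eq_one_iff]; exact hgN
    have h3 : orderOf (g : G ⧸ N) = p := orderOf_eq_prime h1 h2
    have h4 : orderOf (⟨(g : G ⧸ N), hgX⟩ : X) = p := (Subgroup.orderOf_mk _ _).trans h3
    apply hX
    rw [← h4]
    exact orderOf_dvd_natCard _
  set X' : Subgroup G := X.comap (QuotientGroup.mk' N) with hX'
  rcases hN with hN | hN
  · refine ⟨X', not_dvd_card_of_forall fun x hx hox => ?_, fun x hx => ?_⟩
    · have hxN := hkey x hx hox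
      apply not_dvd_of_coprime hN
      rw [← hox, ← Subgroup.orderOf_mk x hxN]
      exact orderOf_dvd_natCard _
    · obtain ⟨g, rfl⟩ := QuotientGroup.mk_surjective x
      exact ⟨g, hx, rfl⟩
  · -- Schur-Zassenhaus in the preimage
    let f : X' →* G ⧸ N := (QuotientGroup.mk' N).comp X'.subtype
    let N' : Subgroup X' := f.ker
    have hN'card : IsPGroup p N' := by
      have hinj : ∀ x : N', (x.1.1 : G) ∈ N := by
        intro x
        have := x.2
        rw [MonoidHom.mem_ker] at this
        have h2 : ((x.1.1 : G) : G ⧸ N) = 1 := this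
        exact (QuotientGroup.eq_one_iff _).mp h2
      let φ : N' →* N :=
        { toFun := fun x => ⟨x.1.1, hinj x⟩
          map_one' := rfl
          map_mul' := fun _ _ => rfl }
      refine hN.of_injective φ ?_
      intro a b hab
      apply Subtype.ext
      apply Subtype.ext
      have hab' := congrArg Subtype.val hab
      exact hab'
    have hrange : Nat.card f.range ∣ Nat.card X := by
      apply Subgroup.card_dvd_of_le
      rintro _ ⟨y, rfl⟩
      exact y.2
    have hidx : N'.index = Nat.card f.range := Subgroup.index_ker f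
    have hcop : Nat.Coprime (Nat.card N') N'.index := by
      obtain ⟨k, hk⟩ := IsPGroup.iff_card.mp hN'card
      rw [hk]
      apply Nat.Coprime.pow_left
      rw [Nat.Prime.coprime_iff_not_dvd hp.out, hidx]
      exact fun h => hX (h.trans hrange)
    obtain ⟨H, hH⟩ := Subgroup.exists_right_complement'_of_coprime hcop
    refine ⟨H.map X'.subtype, not_dvd_card_of_forall ?_, ?_⟩
    · rintro x ⟨y, hy, rfl⟩ hox
      have hyN : (y : G) ∈ N := hkey y y.2 hox
      have hyN' : y ∈ N' := by
        rw [MonoidHom.mem_ker]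
        exact (QuotientGroup.eq_one_iff _).mpr hyN
      have hdisj := hH.disjoint
      have hy1 : y = 1 := by
        have : y ∈ N' ⊓ H := ⟨hyN', hy⟩
        rw [hdisj.eq_bot] at this
        simpa using this
      rw [hy1] at hox
      simp at hox
      exact hp.out.one_lt.ne hox
    · intro x hx
      obtain ⟨g, rfl⟩ := QuotientGroup.mk_surjective x
      have hgX : g ∈ X' := hx
      obtain ⟨⟨n, m⟩, hnm⟩ := hH.existsUnique ⟨g, hgX⟩ |>.exists
      simp only at hnm
      refine ⟨m.1.1, ⟨m.1, m.2, rfl⟩, ?_⟩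
      have hn1 : f n.1 = 1 := n.2
      have h3 : f ⟨g, hgX⟩ = f m.1 := by
        rw [← hnm, map_mul, hn1, one_mul]
      exact h3.symm

theorem Hyp.quot (h : Hyp p G) (N : Subgroup G) [N.Normal]
    (hN : (Nat.card N).Coprime p ∨ IsPGroup p N) : Hyp p (G ⧸ N) := by
  refine ⟨fun Q => ?_, fun X hX => ?_⟩
  · obtain ⟨P, rfl⟩ := Sylow.mapSurjective_surjective
      (QuotientGroup.mk'_surjective N) p Q
    haveI := h.cyc P
    have hsur : Function.Surjective ((QuotientGroup.mk' N).subgroupMap (P : Subgroup G)) :=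
      MonoidHom.subgroupMap_surjective _ _
    exact isCyclic_of_surjective _ hsur
  · obtain ⟨Y, hY, hlift⟩ := exists_lift N hN X hX
    have hYc := h.ab Y hY
    refine mulComm_of fun a ha b hb => ?_
    obtain ⟨a', ha', rfl⟩ := hlift a ha
    obtain ⟨b', hb', rfl⟩ := hlift b hb
    rw [← QuotientGroup.mk_mul, ← QuotientGroup.mk_mul, comm_of hYc ha' hb']

/-- Burnside's transfer theorem in the form used here. -/
theorem hasComplement_of_normalizer_le (P : Sylow p G)
    (hP : normalizer (P : Set G) ≤ centralizer (P : Set G)) : Cfsg.HasNormalPComplement p G := by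
  refine ⟨P, (MonoidHom.transferSylow P hP).ker, inferInstance, ?_⟩
  exact MonoidHom.ker_transferSylow_isComplement' P hP

/-- The `p`-elements of the normalizer of a Sylow subgroup lie in the Sylow subgroup. -/
theorem mem_of_mem_normalizer (P : Sylow p G) {g : G} (hg : g ∈ normalizer (P : Set G)) {k : ℕ}
    (hk : orderOf g = p ^ k) : g ∈ (P : Subgroup G) := by
  have hpg : IsPGroup p (zpowers g) := by
    rw [IsPGroup.iff_card, Nat.card_zpowers]
    exact ⟨k, hk⟩
  have hle : zpowers g ≤ normalizer (P : Set G) := zpowers_le.mpr hg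
  have h2 := P.isPGroup'.to_sup_of_normal_left' hpg hle
  have h3 := P.is_maximal' h2 le_sup_left
  rw [← h3]
  exact (le_sup_right : zpowers g ≤ _) (mem_zpowers g)

/-- An element outside the centralizer of a Sylow subgroup in its normalizer gives a `p'`-element
acting non-trivially. -/
theorem exists_coprime_not_mem (P : Sylow p G) (hc : IsCyclic P)
    (hn : ¬ normalizer (P : Set G) ≤ centralizer (P : Set G)) :
    ∃ y ∈ normalizer (P : Set G), (orderOf y).Coprime p ∧ y ∉ centralizer (P : Set G) := by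
  obtain ⟨g, hg, hgc⟩ := SetLike.not_le_iff_exists.mp hn
  obtain ⟨a, b, rfl, hcom, ha, hb, ⟨k, hk⟩, hbo⟩ :=
    Cfsg.Agent.Lib.Transfer.Basic.exists_pPart_decomp (p := p) g
  have hle : zpowers (a * b) ≤ normalizer (P : Set G) := zpowers_le.mpr hg
  have haP : a ∈ (P : Subgroup G) := mem_of_mem_normalizer P (hle ha) hk
  refine ⟨b, hle hb, hbo, fun hbc => hgc ?_⟩
  have hcomm : ∀ x ∈ (P : Subgroup G), ∀ y ∈ (P : Subgroup G), x * y = y * x := by
    intro x hx y hy
    have := (IsCyclic.commGroup (α := P)).mul_comm ⟨x, hx⟩ ⟨y, hy⟩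
    exact congrArg Subtype.val this
  refine Subgroup.mul_mem _ ?_ hbc
  rw [mem_centralizer_iff]
  intro u hu
  exact hcomm u hu a haP

/-- If `N` is normal of order prime to `p` and `G/N` has the conclusion, then so does `G`. -/
theorem con_of_quot_coprime (h : Hyp p G) (N : Subgroup G) [N.Normal]
    (hN : (Nat.card N).Coprime p) (hq : Con p (G ⧸ N)) : Con p G := by
  rcases hq with hq | ⟨T, hT⟩
  · left
    obtain ⟨L, hL, h1, h2⟩ := Cfsg.Agent.Lib.Transfer.Basic.hasNormalPComplement_iff.mp hq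
    refine Cfsg.Agent.Lib.Transfer.Basic.hasNormalPComplement_iff.mpr
      ⟨L.comap (QuotientGroup.mk' N), inferInstance, ?_, ?_⟩
    · apply coprime_of_not_dvd
      refine not_dvd_card_of_forall fun x hx hox => ?_
      have hx' : (x : G ⧸ N) ∈ L := hx
      by_cases hxN : x ∈ N
      · apply not_dvd_of_coprime hN
        rw [← hox, ← Subgroup.orderOf_mk x hxN]
        exact orderOf_dvd_natCard _
      · have h3 : (x : G ⧸ N) ≠ 1 := by
          rw [Ne, QuotientGroup.eq_one_iff]; exact hxN
        have h4 : (x : G ⧸ N) ^ p = 1 := by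
          rw [← QuotientGroup.mk_pow, ← hox, pow_orderOf_eq_one, QuotientGroup.mk_one]
        have h5 := orderOf_eq_prime h4 h3
        apply not_dvd_of_coprime h1
        rw [← h5, ← Subgroup.orderOf_mk _ hx']
        exact orderOf_dvd_natCard _
    · intro x
      obtain ⟨g, rfl⟩ := QuotientGroup.mk_surjective x
      obtain ⟨k, hk⟩ := h2 ((g : G ⧸ N) : (G ⧸ N) ⧸ L)
      refine ⟨k, ?_⟩
      rw [← QuotientGroup.mk_pow, QuotientGroup.eq_one_iff] at hk ⊢
      exact hk
  · -- `G/N` has a normal Sylow subgroup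
    obtain ⟨P⟩ : Nonempty (Sylow p G) := inferInstance
    by_cases hb : normalizer (P : Set G) ≤ centralizer (P : Set G)
    · exact Or.inl (hasComplement_of_normalizer_le P hb)
    right
    refine ⟨P, ?_⟩
    have hPc := h.cyc P
    obtain ⟨y, hyN, hyo, hyc⟩ := exists_coprime_not_mem P hPc hb
    obtain ⟨-, hfpf⟩ := fpf P.isPGroup' hPc hyN hyo hyc
    -- `y` centralizes `N`
    have hsup : ¬ p ∣ Nat.card (N ⊔ zpowers y : Subgroup G) := by
      refine not_dvd_card_of_forall fun x hx hox => ?_
      rw [← SetLike.mem_coe, Subgroup.normal_mul] at hx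
      obtain ⟨n, hn, m, hm, rfl⟩ := Set.mem_mul.mp hx
      have hm' : m ∈ zpowers y := hm
      by_cases hm1 : (m : G ⧸ N) = 1
      · have hmN : m ∈ N := (QuotientGroup.eq_one_iff _).mp hm1
        have hxN : n * m ∈ N := N.mul_mem hn hmN
        apply not_dvd_of_coprime hN
        rw [← hox, ← Subgroup.orderOf_mk _ hxN]
        exact orderOf_dvd_natCard _
      · have h4 : ((n * m : G) : G ⧸ N) = m := by
          rw [QuotientGroup.mk_mul, (QuotientGroup.eq_one_iff n).mpr hn, one_mul]
        have h5 : (m : G ⧸ N) ^ p = 1 := by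
          rw [← h4, ← QuotientGroup.mk_pow, ← hox, pow_orderOf_eq_one, QuotientGroup.mk_one]
        have h6 := orderOf_eq_prime h5 hm1
        have h7 : orderOf (m : G ⧸ N) ∣ orderOf m := orderOf_map_dvd (QuotientGroup.mk' N) m
        have h8 : orderOf m ∣ orderOf y := by
          have := orderOf_dvd_natCard (⟨m, hm'⟩ : zpowers y)
          rw [Nat.card_zpowers, Subgroup.orderOf_mk] at this
          exact this
        rw [h6] at h7
        exact not_dvd_of_coprime hyo (h7.trans h8)
    have hcomm := h.ab _ hsup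
    have hyN' : ∀ n ∈ N, y * n = n * y := fun n hn =>
      comm_of hcomm ((le_sup_right : zpowers y ≤ _) (mem_zpowers y))
        ((le_sup_left : N ≤ _) hn)
    -- `P` centralizes `N`
    have hPN : ∀ v ∈ (P : Subgroup G), ∀ n ∈ N, v * n * v⁻¹ = n := by
      intro v hv n hn
      obtain ⟨u, hu, rfl⟩ := hfpf v hv
      have h1 : u⁻¹ * n * u ∈ N := by
        have := ‹N.Normal›.conj_mem n hn u⁻¹
        simpa using this
      have h2 := hyN' _ h1
      have h3 := hyN' n hn
      have h4 : y⁻¹ * (u⁻¹ * n * u) * y = u⁻¹ * n * u := by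
        rw [mul_assoc, h2.symm]; group
      calc y * u * y⁻¹ * u⁻¹ * n * (y * u * y⁻¹ * u⁻¹)⁻¹
          = y * u * (y⁻¹ * (u⁻¹ * n * u) * y) * u⁻¹ * y⁻¹ := by group
        _ = y * u * (u⁻¹ * n * u) * u⁻¹ * y⁻¹ := by rw [h4]
        _ = y * n * y⁻¹ := by group
        _ = n := by rw [h3]; group
    -- Frattini
    have hle : ∀ t : G, (t : G ⧸ N) ∈ (T : Subgroup (G ⧸ N)) →
        ∃ n ∈ N, ∃ v ∈ (P : Subgroup G), t = n * v := by
      intro t ht
      have hsyl : (P.mapSurjective (QuotientGroup.mk'_surjective N) : Sylow p (G ⧸ N)) = T := by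
        letI := Sylow.unique_of_normal T hT
        exact Subsingleton.elim _ _
      have ht' : (t : G ⧸ N) ∈ (P.mapSurjective (QuotientGroup.mk'_surjective N) : Sylow p (G ⧸ N)) := by
        rw [hsyl]; exact ht
      obtain ⟨v, hv, hvt⟩ := ht'
      refine ⟨t * v⁻¹, ?_, v, hv, by group⟩
      rw [← QuotientGroup.eq_one_iff, QuotientGroup.mk_mul, QuotientGroup.mk_inv]
      have : ((v : G) : G ⧸ N) = t := hvt
      rw [← this]; group
    haveI hT'n : (T : Subgroup (G ⧸ N)).Normal := hT
    have hPT : (P : Subgroup G) ≤ (T : Subgroup (G ⧸ N)).comap (QuotientGroup.mk' N) := by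
      intro v hv
      have hsyl : (P.mapSurjective (QuotientGroup.mk'_surjective N) : Sylow p (G ⧸ N)) = T := by
        letI := Sylow.unique_of_normal T hT
        exact Subsingleton.elim _ _
      rw [Subgroup.mem_comap, ← hsyl]
      exact ⟨v, hv, rfl⟩
    haveI : ((T : Subgroup (G ⧸ N)).comap (QuotientGroup.mk' N)).Normal := Subgroup.Normal.comap hT _
    constructor
    intro v hv g
    obtain ⟨t, ht, w, hw, rfl⟩ := Cfsg.Agent.Lib.Basic.SylowUtil.frattini_argument P hPT g
    obtain ⟨n, hn, u, hu, rfl⟩ := hle t ht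
    have hw' : w * v * w⁻¹ ∈ (P : Subgroup G) := (mem_normalizer_iff.mp hw v).1 hv
    have hu' : (u * w) * v * (u * w)⁻¹ ∈ (P : Subgroup G) := by
      have : (u * w) * v * (u * w)⁻¹ = u * (w * v * w⁻¹) * u⁻¹ := by group
      rw [this]
      exact P.toSubgroup.mul_mem (P.toSubgroup.mul_mem hu hw') (P.toSubgroup.inv_mem hu)
    -- `n` commutes with elements of `P`
    have hc := hPN _ hu' n hn
    have hc' : n * ((u * w) * v * (u * w)⁻¹) * n⁻¹ = (u * w) * v * (u * w)⁻¹ := by
      set c := (u * w) * v * (u * w)⁻¹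
      have h3 : c * n = n * c := by
        have h5 : c * n * c⁻¹ * c = n * c := by rw [hc]
        simpa using h5
      rw [← h3]; group
    have : n * u * w * v * (n * u * w)⁻¹ = n * ((u * w) * v * (u * w)⁻¹) * n⁻¹ := by group
    rw [this, hc']
    exact hu'

/-- If `R` is a non-trivial normal `p`-subgroup and `G/R` has the conclusion, then so does `G`. -/
theorem con_of_quot_pgroup (h : Hyp p G) (R : Subgroup G) [R.Normal]
    (hR : IsPGroup p R) (hR1 : R ≠ ⊥) (hq : Con p (G ⧸ R)) : Con p G := by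
  -- the preimage of a `p`-subgroup of the quotient is a `p`-group
  have hpre : ∀ g : G, ∀ k : ℕ, (g : G ⧸ R) ^ p ^ k = 1 → ∃ j : ℕ, g ^ p ^ j = 1 := by
    intro g k hk
    rw [← QuotientGroup.mk_pow, QuotientGroup.eq_one_iff] at hk
    obtain ⟨j, hj⟩ := hR ⟨_, hk⟩
    refine ⟨k + j, ?_⟩
    have := congrArg Subtype.val hj
    simp only [SubmonoidClass.mk_pow, OneMemClass.coe_one] at this
    rw [pow_add, pow_mul]
    exact this
  rcases hq with hq | ⟨T, hT⟩
  swap
  · right
    obtain ⟨P⟩ : Nonempty (Sylow p G) := inferInstance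
    refine ⟨P, ?_⟩
    have hsyl : (P.mapSurjective (QuotientGroup.mk'_surjective R) : Sylow p (G ⧸ R)) = T := by
      letI := Sylow.unique_of_normal T hT
      exact Subsingleton.elim _ _
    let T' : Subgroup G := (T : Subgroup (G ⧸ R)).comap (QuotientGroup.mk' R)
    have hT'p : IsPGroup p T' := by
      intro x
      obtain ⟨k, hk⟩ := T.isPGroup' ⟨(x.1 : G ⧸ R), x.2⟩
      have hk' : (x.1 : G ⧸ R) ^ p ^ k = 1 := congrArg Subtype.val hk
      obtain ⟨j, hj⟩ := hpre x.1 k hk'
      exact ⟨j, Subtype.ext hj⟩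
    have hPT : (P : Subgroup G) ≤ T' := by
      intro v hv
      show (v : G ⧸ R) ∈ (T : Subgroup (G ⧸ R))
      rw [← hsyl]
      exact ⟨v, hv, rfl⟩
    have heq := P.is_maximal' hT'p hPT
    have hT'n : T'.Normal := Subgroup.Normal.comap hT _
    exact heq ▸ hT'n
  obtain ⟨L₀, hL₀, h1, h2⟩ := Cfsg.Agent.Lib.Transfer.Basic.hasNormalPComplement_iff.mp hq
  let L : Subgroup G := L₀.comap (QuotientGroup.mk' R)
  haveI hLn : L.Normal := inferInstance
  have hRL : R ≤ L := by
    intro r hr
    show (r : G ⧸ R) ∈ L₀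
    rw [(QuotientGroup.eq_one_iff r).mpr hr]
    exact L₀.one_mem
  have hRc : IsCyclic R := by
    obtain ⟨P⟩ : Nonempty (Sylow p G) := inferInstance
    have hle := hR.le_sylow_of_normal P
    haveI := h.cyc P
    exact isCyclic_of_injective (Subgroup.inclusion hle) (Subgroup.inclusion_injective hle)
  have hRcomm : ∀ a ∈ R, ∀ b ∈ R, a * b = b * a := by
    intro x hx y hy
    have := (IsCyclic.commGroup (α := R)).mul_comm ⟨x, hx⟩ ⟨y, hy⟩
    exact congrArg Subtype.val this
  -- elements of `L` of `p`-power order lie in `R`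
  have hLp : ∀ g ∈ L, ∀ k, g ^ p ^ k = 1 → g ∈ R := by
    intro g hg k hk
    have h3 : (g : G ⧸ R) ^ p ^ k = 1 := by
      rw [← QuotientGroup.mk_pow, hk, QuotientGroup.mk_one]
    have h4 : orderOf (g : G ⧸ R) ∣ Nat.card L₀ := by
      have hg' : (g : G ⧸ R) ∈ L₀ := hg
      have := orderOf_dvd_natCard (⟨(g : G ⧸ R), hg'⟩ : L₀)
      rwa [Subgroup.orderOf_mk] at this
    have h5 : orderOf (g : G ⧸ R) ∣ p ^ k := orderOf_dvd_of_pow_eq_one h3
    have h6 : Nat.Coprime (orderOf (g : G ⧸ R)) (p ^ k) :=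
      Nat.Coprime.coprime_dvd_left h4 (Nat.Coprime.pow_right k h1)
    have h7 := Nat.Coprime.eq_one_of_dvd h6 h5
    exact (QuotientGroup.eq_one_iff _).mp (orderOf_eq_one_iff.mp h7)
  have hGL : ∀ g : G, ∃ k, g ^ p ^ k ∈ L := by
    intro g
    obtain ⟨k, hk⟩ := h2 ((g : G ⧸ R) : (G ⧸ R) ⧸ L₀)
    refine ⟨k, ?_⟩
    rw [← QuotientGroup.mk_pow, QuotientGroup.eq_one_iff] at hk
    exact hk
  by_cases hcent : ∀ g ∈ L, ∀ r ∈ R, g * r = r * g
  · -- `L = R × Y`
    left
    let R' : Subgroup L := R.subgroupOf L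
    haveI : R'.Normal := inferInstance
    have hR'p : IsPGroup p R' := by
      intro x
      obtain ⟨k, hk⟩ := hR ⟨x.1.1, x.2⟩
      refine ⟨k, ?_⟩
      apply Subtype.ext
      apply Subtype.ext
      have := congrArg Subtype.val hk
      exact this
    have hidx : R'.index ∣ Nat.card L₀ := by
      let f : L →* L₀ :=
        { toFun := fun x => ⟨(x.1 : G ⧸ R), x.2⟩
          map_one' := rfl
          map_mul' := fun _ _ => rfl }
      have hker : f.ker = R' := by
        ext x
        rw [MonoidHom.mem_ker, Subgroup.mem_subgroupOf]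
        constructor
        · intro hx
          exact (QuotientGroup.eq_one_iff _).mp (congrArg Subtype.val hx)
        · intro hx
          exact Subtype.ext ((QuotientGroup.eq_one_iff _).mpr hx)
      rw [← hker, Subgroup.index_ker]
      exact Subgroup.card_subgroup_dvd_card _
    have hcop : Nat.Coprime (Nat.card R') R'.index := by
      obtain ⟨k, hk⟩ := IsPGroup.iff_card.mp hR'p
      rw [hk]
      apply Nat.Coprime.pow_left
      exact (Nat.Coprime.coprime_dvd_left hidx h1).symm
    obtain ⟨H, hH⟩ := Subgroup.exists_right_complement'_of_coprime hcop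
    let Y : Subgroup G := H.map L.subtype
    have hYdec : ∀ g ∈ L, ∃ r ∈ R, ∃ y ∈ Y, g = r * y := by
      intro g hg
      obtain ⟨⟨n, m⟩, hnm⟩ := hH.existsUnique ⟨g, hg⟩ |>.exists
      simp only at hnm
      refine ⟨n.1.1, n.2, m.1.1, ⟨m.1, m.2, rfl⟩, ?_⟩
      have := congrArg Subtype.val hnm
      exact this.symm
    have hYcard : ¬ p ∣ Nat.card Y := by
      refine not_dvd_card_of_forall ?_
      rintro x ⟨y, hy, rfl⟩ hox
      have hyR : (y : G) ∈ R := hLp y y.2 1 (by rw [pow_one]; rw [← hox]; exact pow_orderOf_eq_one _)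
      have hy1 : y = 1 := by
        have : y ∈ R' ⊓ H := ⟨hyR, hy⟩
        rw [hH.disjoint.eq_bot] at this
        simpa using this
      rw [hy1] at hox
      simp at hox
      exact hp.out.one_lt.ne hox
    have hYL : Y ≤ L := by
      rintro _ ⟨y, -, rfl⟩
      exact y.2
    have hYp : ∀ y ∈ Y, (orderOf y).Coprime p := by
      intro y hy
      have h3 : orderOf (⟨y, hy⟩ : Y) ∣ Nat.card Y := orderOf_dvd_natCard _
      rw [Subgroup.orderOf_mk] at h3
      exact Nat.Coprime.coprime_dvd_left h3 (coprime_of_not_dvd hYcard)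
    have hYpure : ∀ x ∈ L, (orderOf x).Coprime p → x ∈ Y := by
      intro x hx hxo
      obtain ⟨r, hr, y, hy, rfl⟩ := hYdec x hx
      have hcomm : Commute r y := (hcent y (hYL hy) r hr).symm
      have h3 : (r * y) ^ (orderOf (r * y) * orderOf y) = 1 := by
        rw [pow_mul, pow_orderOf_eq_one, one_pow]
      have h4 : r ^ (orderOf (r * y) * orderOf y) = 1 := by
        rw [hcomm.mul_pow, mul_comm (orderOf (r * y)), pow_mul y, pow_orderOf_eq_one, one_pow,
          mul_one] at h3
        rwa [mul_comm]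
      obtain ⟨k, hk⟩ := (IsPGroup.iff_orderOf.mp hR) ⟨r, hr⟩
      have hk' : orderOf r = p ^ k := (Subgroup.orderOf_mk r hr).symm.trans hk
      have h5 : orderOf r ∣ orderOf (r * y) * orderOf y := orderOf_dvd_of_pow_eq_one h4
      have h6 : Nat.Coprime (orderOf r) (orderOf (r * y) * orderOf y) := by
        rw [hk']
        apply Nat.Coprime.pow_left
        exact Nat.Coprime.mul_right hxo.symm (hYp y hy).symm
      have h7 := Nat.Coprime.eq_one_of_dvd h6 h5
      rw [orderOf_eq_one_iff.mp h7, one_mul]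
      exact hy
    have hYn : Y.Normal := by
      constructor
      intro y hy g
      apply hYpure
      · exact hLn.conj_mem y (hYL hy) g
      · rw [Cfsg.Agent.Lib.Transfer.Basic.orderOf_conj_eq]
        exact hYp y hy
    refine Cfsg.Agent.Lib.Transfer.Basic.hasNormalPComplement_iff.mpr
      ⟨Y, hYn, coprime_of_not_dvd hYcard, ?_⟩
    intro x
    obtain ⟨g, rfl⟩ := QuotientGroup.mk_surjective x
    obtain ⟨k, hk⟩ := hGL g
    obtain ⟨r, hr, y, hy, hry⟩ := hYdec _ hk
    obtain ⟨j, hj⟩ := hR ⟨r, hr⟩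
    have hj' : r ^ p ^ j = 1 := congrArg Subtype.val hj
    refine ⟨k + j, ?_⟩
    rw [← QuotientGroup.mk_pow, QuotientGroup.eq_one_iff, pow_add, pow_mul, hry]
    have hcomm : Commute r y := (hcent y (hYL hy) r hr).symm
    rw [hcomm.mul_pow, hj', one_mul]
    exact Y.pow_mem hy _
  · -- some `q`-element of `L` acts non-trivially on `R`
    right
    have hex : ∃ y ∈ L, (∃ q e : ℕ, q.Prime ∧ q ≠ p ∧ orderOf y = q ^ e) ∧
        ∃ r ∈ R, y * r ≠ r * y := by
      by_contra hno
      push Not at hno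
      apply hcent
      intro g hg r hr
      have hgL : (⟨g, hg⟩ : L) = ⟨g, hg⟩ := rfl
      have key : ∀ x : L, (x : G) * r = r * x := by
        intro x
        refine Cfsg.Agent.Lib.ClassSize.Basic.primary_induction
          (M := fun x : L => (x : G) * r = r * x) ?_ (by simp) ?_ x
        · rintro x ⟨q, e, hq, hoe⟩
          by_cases hqp : q = p
          · subst hqp
            have hxe : (x : G) ^ q ^ e = 1 := by
              have := pow_orderOf_eq_one x
              rw [hoe] at this
              exact congrArg Subtype.val this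
            exact hRcomm _ (hLp _ x.2 e hxe) _ hr
          · exact hno x x.2 ⟨q, e, hq, hqp, (Subgroup.orderOf_coe x).trans hoe⟩ r hr
        · intro a b _ _ ha hb
          calc ((a * b : L) : G) * r = a * (b * r) := by simp [mul_assoc]
            _ = a * (r * b) := by rw [hb]
            _ = (a * r) * b := by group
            _ = (r * a) * b := by rw [ha]
            _ = r * ((a * b : L) : G) := by simp [mul_assoc]
      exact key ⟨g, hg⟩
    obtain ⟨y, hyL, ⟨q, e, hq, hqp, hoy⟩, r₀', hr₀', hmove⟩ := hex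
    haveI : Fact q.Prime := ⟨hq⟩
    -- a Sylow `q`-subgroup of `L` containing `y`
    have hQex : ∃ Q₀ : Sylow q L, (⟨y, hyL⟩ : L) ∈ Q₀ := by
      have hz : IsPGroup q (zpowers (⟨y, hyL⟩ : L)) := by
        rw [IsPGroup.iff_card, Nat.card_zpowers, Subgroup.orderOf_mk]
        exact ⟨e, hoy⟩
      obtain ⟨Q₀, hQ₀⟩ := hz.exists_le_sylow
      exact ⟨Q₀, hQ₀ (mem_zpowers _)⟩
    obtain ⟨Q₀, hyQ₀⟩ := hQex
    set Q : Subgroup G := (Q₀ : Subgroup L).map L.subtype with hQdef
    have hyQ : y ∈ Q := ⟨⟨y, hyL⟩, hyQ₀, rfl⟩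
    have hQq : IsPGroup q Q := Q₀.isPGroup'.map _
    -- an element of order `p` in `R`
    obtain ⟨r₀, hr₀, hor₀⟩ : ∃ r₀ ∈ R, orderOf r₀ = p := by
      obtain ⟨a, ha⟩ := (Subgroup.ne_bot_iff_exists_ne_one.mp hR1)
      have ha1 : (a : G) ≠ 1 := fun h => ha (Subtype.ext h)
      obtain ⟨k, hk⟩ := (IsPGroup.iff_orderOf.mp hR) a
      obtain ⟨b, hb, hob⟩ := exists_pow_order_p ha1 ((Subgroup.orderOf_coe a).trans hk)
      exact ⟨b, (zpowers_le.mpr a.2) hb, hob⟩
    -- `y` acts fixed point freely on `R`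
    have hyN : y ∈ normalizer (R : Set G) := by
      rw [mem_normalizer_iff]
      intro v
      constructor
      · exact fun hv => ‹R.Normal›.conj_mem v hv y
      · intro hv
        have := ‹R.Normal›.conj_mem _ hv y⁻¹
        simpa [mul_assoc] using this
    have hyo : (orderOf y).Coprime p := by
      rw [hoy]
      exact Nat.Coprime.pow_left e ((Nat.coprime_primes hq hp.out).mpr hqp)
    have hyc : y ∉ centralizer (R : Set G) := by
      intro hc
      rw [mem_centralizer_iff] at hc
      exact hmove (hc r₀' hr₀').symm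
    obtain ⟨hfix, -⟩ := fpf hR hRc hyN hyo hyc
    -- the normalizer of `Q` has no elements of order `p`
    have hno : ∀ d ∈ normalizer (Q : Set G), orderOf d = p → False := by
      intro d hd hod
      have hdp : IsPGroup p (zpowers d) := by
        rw [IsPGroup.iff_card, Nat.card_zpowers, hod]
        exact ⟨1, (pow_one p).symm⟩
      obtain ⟨P, hP⟩ := hdp.exists_le_sylow
      have hRP := hR.le_sylow_of_normal P
      have hr₀d : r₀ ∈ zpowers d :=
        mem_zpowers_of_order_p (h.cyc P) (hP (mem_zpowers d)) (hRP hr₀) hod hor₀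
      have hr₀N : r₀ ∈ normalizer (Q : Set G) := (zpowers_le.mpr hd) hr₀d
      have hcm : r₀ * y * r₀⁻¹ * y⁻¹ ∈ Q ⊓ R := by
        constructor
        · exact Q.mul_mem ((mem_normalizer_iff.mp hr₀N y).1 hyQ) (Q.inv_mem hyQ)
        · have h3 := ‹R.Normal›.conj_mem _ (R.inv_mem hr₀) y
          have : r₀ * y * r₀⁻¹ * y⁻¹ = r₀ * (y * r₀⁻¹ * y⁻¹) := by group
          rw [this]
          exact R.mul_mem hr₀ h3
      have hbot : Q ⊓ R = ⊥ := by
        apply IsPGroup.disjoint_of_ne q p hqp Q R hQq hR |>.eq_bot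
      rw [hbot, Subgroup.mem_bot] at hcm
      have h3 : y * r₀ * y⁻¹ = r₀ := by
        have h4 : r₀ * y = y * r₀ := by
          have h5 : r₀ * y * r₀⁻¹ * y⁻¹ * (y * r₀) = 1 * (y * r₀) := by rw [hcm]
          simpa [mul_assoc] using h5
        rw [← h4]; group
      have := hfix r₀ hr₀ h3
      rw [this, orderOf_one] at hor₀
      exact hp.out.one_lt.ne hor₀
    -- so `L = G`
    have hLtop : ∀ g : G, g ∈ L := by
      intro g
      obtain ⟨n, hn, w, hw, rfl⟩ := Cfsg.Agent.Lib.Basic.SylowUtil.frattini_argument' Q₀ g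
      apply L.mul_mem hn
      -- `w` has order prime to `p`
      have hwo : (orderOf w).Coprime p := by
        apply coprime_of_not_dvd
        intro hd
        have hord := orderOf_pow_orderOf_div (orderOf_pos w).ne' hd
        exact hno _ ((normalizer (Q : Set G)).pow_mem hw _) hord
      have h3 := Cfsg.Agent.Lib.Transfer.Basic.map_eq_one_of_coprime (p := p)
        (Q := (G ⧸ L)) ?_ (QuotientGroup.mk' L) hwo
      · exact (QuotientGroup.eq_one_iff _).mp h3
      · intro x
        obtain ⟨g', rfl⟩ := QuotientGroup.mk_surjective x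
        obtain ⟨k, hk⟩ := hGL g'
        refine ⟨k, ?_⟩
        rw [← QuotientGroup.mk_pow, QuotientGroup.eq_one_iff]
        exact hk
    -- hence `R` is the Sylow subgroup
    obtain ⟨P⟩ : Nonempty (Sylow p G) := inferInstance
    refine ⟨P, ?_⟩
    have hPR : (P : Subgroup G) ≤ R := by
      intro v hv
      obtain ⟨k, hk⟩ := P.isPGroup' ⟨v, hv⟩
      exact hLp v (hLtop v) k (congrArg Subtype.val hk)
    have hRP := hR.le_sylow_of_normal P
    have : (P : Subgroup G) = R := le_antisymm hPR hRP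
    rw [this]
    infer_instance

end Cfsg.Agent.Lib.CycSylow
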