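import Mathlib

set_option autoImplicit false

/-!
# Regular friendship graphs

A finite graph in which any two distinct vertices have exactly one common neighbour cannot be
regular of degree at least three.  (Erdős–Rényi–Sós; the trace computation modulo a prime divisor
of `d - 1`, after Huneke.)
-/

namespace Cfsg.Agent.Lib.CycSylow.Friend

noncomputable section

open Finset SimpleGraph Matrix

universe u

variable {V : Type u} [Fintype V] [DecidableEq V] {G : SimpleGraph V} [DecidableRel G.Adj] {d : ℕ}

/-- Friendship, in the form of "unique common neighbour". -/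
def IsFr (G : SimpleGraph V) [DecidableRel G.Adj] : Prop :=
  ∀ ⦃v w : V⦄, v ≠ w → ((univ.filter fun x => G.Adj v x ∧ G.Adj x w).card = 1)

theorem sq_ne {R : Type*} [Semiring R] (hG : IsFr G) {v w : V} (hvw : v ≠ w) :
    (G.adjMatrix R ^ 2 : Matrix V V R) v w = 1 := by
  rw [sq, Matrix.mul_apply]
  have h := hG hvw
  have : ∑ j : V, G.adjMatrix R v j * G.adjMatrix R j w
      = ∑ j : V, if (G.Adj v j ∧ G.Adj j w) then (1 : R) else 0 := by
    refine Finset.sum_congr rfl fun j _ => ?_
    simp only [adjMatrix_apply]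
    by_cases h1 : G.Adj v j <;> by_cases h2 : G.Adj j w <;> simp [h1, h2]
  rw [this, Finset.sum_boole, h]
  simp

theorem sq_regular {R : Type*} [Semiring R] (hG : IsFr G) (hd : G.IsRegularOfDegree d) :
    G.adjMatrix R ^ 2 = of fun v w => if v = w then (d : R) else (1 : R) := by
  ext v w
  by_cases h : v = w
  · subst h
    rw [sq, adjMatrix_mul_self_apply_self, hd]
    simp
  · rw [sq_ne hG h, of_apply, if_neg h]

theorem sq_mod {p : ℕ} (hG : IsFr G) (dmod : (d : ZMod p) = 1) (hd : G.IsRegularOfDegree d) :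
    G.adjMatrix (ZMod p) ^ 2 = of fun _ _ => 1 := by
  simp [sq_regular hG hd, dmod]

theorem card_eq [Nonempty V] (hG : IsFr G) (hd : G.IsRegularOfDegree d) :
    d + (Fintype.card V - 1) = d * d := by
  have v := Classical.arbitrary V
  trans ((G.adjMatrix ℕ ^ 2) *ᵥ (fun _ => 1)) v
  · rw [sq_regular hG hd, mulVec, dotProduct, ← insert_erase (mem_univ v)]
    simp only [sum_insert, mul_one, if_true, Nat.cast_id, mem_erase, not_true,
      Ne, not_false_iff, add_right_inj, false_and, of_apply]
    rw [Finset.sum_const_nat, card_erase_of_mem (mem_univ v), mul_one]; · rfl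
    intro x hx; simp [(ne_of_mem_erase hx).symm]
  · rw [sq, ← mulVec_mulVec]
    simp only [adjMatrix_mulVec_const_apply_of_regular hd, neighborFinset,
      card_neighborSet_eq_degree, hd v, Function.const_def, adjMatrix_mulVec_apply _ _ (mulVec _ _),
      mul_one, sum_const, Set.toFinset_card, smul_eq_mul, Nat.cast_id]
    change ∑ _x ∈ (G.neighborSet v).toFinset, d = d * d
    rw [sum_const, Set.toFinset_card, card_neighborSet_eq_degree, hd v, smul_eq_mul]

theorem card_mod [Nonempty V] {p : ℕ} (hG : IsFr G) (dmod : (d : ZMod p) = 1)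
    (hd : G.IsRegularOfDegree d) : (Fintype.card V : ZMod p) = 1 := by
  have hpos : 0 < Fintype.card V := Fintype.card_pos_iff.mpr inferInstance
  rw [← Nat.succ_pred_eq_of_pos hpos, Nat.succ_eq_add_one, Nat.pred_eq_sub_one]
  simp only [add_eq_right, Nat.cast_add, Nat.cast_one]
  have h := congr_arg (fun n : ℕ => (n : ZMod p)) (card_eq hG hd)
  revert h; simp [dmod]

theorem mul_const {R : Type*} [Semiring R] (hd : G.IsRegularOfDegree d) :
    G.adjMatrix R * of (fun _ _ => 1) = of (fun _ _ => (d : R)) := by
  ext x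
  simp only [← hd x, degree, adjMatrix_mul_apply, sum_const, Nat.smul_one_eq_cast, of_apply]

theorem pow_mod {p : ℕ} (hG : IsFr G) (dmod : (d : ZMod p) = 1)
    (hd : G.IsRegularOfDegree d) {k : ℕ} (hk : 2 ≤ k) :
    G.adjMatrix (ZMod p) ^ k = of (fun _ _ => 1) := by
  match k with
  | 0 | 1 => exfalso; linarith
  | k + 2 =>
    induction k with
    | zero => exact sq_mod hG dmod hd
    | succ k hind =>
      rw [pow_succ', hind (Nat.le_add_left 2 k), mul_const hd, dmod]

/-- A regular friendship graph has degree at most two. -/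
theorem false_of_three_le [Nonempty V] (hG : IsFr G) (hd : G.IsRegularOfDegree d) (h : 3 ≤ d) :
    False := by
  let p : ℕ := (d - 1).minFac
  have p_dvd_d_pred := (ZMod.natCast_eq_zero_iff _ _).mpr (d - 1).minFac_dvd
  have dpos : 1 ≤ d := by lia
  have : Fact p.Prime := ⟨Nat.minFac_prime (by lia)⟩
  have hp2 : 2 ≤ p := (Fact.out (p := p.Prime)).two_le
  have dmod : (d : ZMod p) = 1 := by
    rw [← Nat.succ_pred_eq_of_pos dpos, Nat.succ_eq_add_one, Nat.pred_eq_sub_one]
    simp only [add_eq_right, Nat.cast_add, Nat.cast_one]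
    exact p_dvd_d_pred
  have Vmod := card_mod hG dmod hd
  have := ZMod.trace_pow_card (G.adjMatrix (ZMod p))
  contrapose! this; clear this
  rw [trace_adjMatrix, zero_pow this.out.ne_zero]
  rw [pow_mod hG dmod hd hp2]
  dsimp only [Fintype.card] at Vmod
  simp only [Matrix.trace, Matrix.diag, mul_one, nsmul_eq_mul, sum_const, of_apply, Ne]
  rw [Vmod, ← Nat.cast_one (R := ZMod (Nat.minFac (d - 1))), ZMod.natCast_eq_zero_iff,
    Nat.dvd_one, Nat.minFac_eq_one_iff]
  lia

end

end Cfsg.Agent.Lib.CycSylow.Friend
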