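import Mathlib
import Cfsg.Agent.Lib.CycSylow.Reduce
import Cfsg.Agent.Lib.CycSylow.Friend

set_option autoImplicit false

/-!
# Cyclic Sylow subgroup, abelian `p'`-subgroups: the simple case, local analysis
-/

namespace Cfsg.Agent.Lib.CycSylow

open Subgroup
open scoped commutatorElement

universe u

variable {G : Type u} [Group G] [Finite G] {p : ℕ} [hp : Fact p.Prime]

/-- The hypotheses in the simple case. -/
structure Sim (p : ℕ) (G : Type u) [Group G] : Prop where
  hyp : Hyp p G
  ind : ∀ M : Subgroup G, M ≠ ⊤ → Con p M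
  simple : ∀ N : Subgroup G, N.Normal → N = ⊥ ∨ N = ⊤
  nonab : ¬ ∀ a b : G, a * b = b * a
  ncon : ¬ Con p G

/-- The abbreviations for the normalizer and centralizer of a Sylow subgroup. -/
abbrev NS {q : ℕ} (P : Sylow q G) : Subgroup G := normalizer ((P : Subgroup G) : Set G)
abbrev CS {q : ℕ} (P : Sylow q G) : Subgroup G := centralizer ((P : Subgroup G) : Set G)

theorem sylow_comm (h : Hyp p G) (P : Sylow p G) :
    ∀ a ∈ (P : Subgroup G), ∀ b ∈ (P : Subgroup G), a * b = b * a := by
  intro x hx y hy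
  haveI := h.cyc P
  have := (IsCyclic.commGroup (α := P)).mul_comm ⟨x, hx⟩ ⟨y, hy⟩
  exact congrArg Subtype.val this

/-- If `y` normalizes the `p'`-subgroup `N` and has order prime to `p` then it centralizes `N`
(normal case). -/
theorem comm_of_normal (h : Hyp p G) (N : Subgroup G) [N.Normal] (hN : (Nat.card N).Coprime p)
    {y : G} (hyo : (orderOf y).Coprime p) : ∀ n ∈ N, y * n = n * y := by
  have hsup : ¬ p ∣ Nat.card (N ⊔ zpowers y : Subgroup G) := by
    refine not_dvd_card_of_forall fun x hx hox => ?_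
    rw [← SetLike.mem_coe, Subgroup.normal_mul] at hx
    obtain ⟨n, hn, m, hm, rfl⟩ := Set.mem_mul.mp hx
    have hm' : m ∈ zpowers y := hm
    by_cases hm1 : (m : G ⧸ N) = 1
    · have hmN : m ∈ N := (QuotientGroup.eq_one_iff _).mp hm1
      have hxN : n * m ∈ N := N.mul_mem hn hmN
      apply not_dvd_of_coprime hN
      rw [← hox, ← Subgroup.orderOf_mk _ hxN]
      exact orderOf_dvd_natCard _
    · have h4 : ((n * m : G) : G ⧸ N) = m := by
        rw [QuotientGroup.mk_mul, (QuotientGroup.eq_one_iff n).mpr hn, one_mul]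
      have h5 : (m : G ⧸ N) ^ p = 1 := by
        rw [← h4, ← QuotientGroup.mk_pow, ← hox, pow_orderOf_eq_one, QuotientGroup.mk_one]
      have h6 := orderOf_eq_prime h5 hm1
      have h7 : orderOf (m : G ⧸ N) ∣ orderOf m := orderOf_map_dvd (QuotientGroup.mk' N) m
      have h8 : orderOf m ∣ orderOf y := by
        have := orderOf_dvd_natCard (⟨m, hm'⟩ : zpowers y)
        rw [Nat.card_zpowers, Subgroup.orderOf_mk] at this
        exact this
      rw [h6] at h7
      exact not_dvd_of_coprime hyo (h7.trans h8)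
  have hcomm := h.ab _ hsup
  exact fun n hn => comm_of hcomm ((le_sup_right : zpowers y ≤ _) (mem_zpowers y))
    ((le_sup_left : N ≤ _) hn)

/-- If `y` normalizes the `p'`-subgroup `N` and has order prime to `p` then it centralizes `N`. -/
theorem comm_of_normalizes (h : Hyp p G) {N : Subgroup G} (hN : (Nat.card N).Coprime p)
    {y : G} (hy : y ∈ normalizer (N : Set G)) (hyo : (orderOf y).Coprime p) :
    ∀ n ∈ N, y * n = n * y := by
  let M : Subgroup G := normalizer (N : Set G)
  have hM := h.sub M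
  let N₁ : Subgroup M := N.subgroupOf M
  haveI : N₁.Normal := Subgroup.normal_in_normalizer
  have hcard : (Nat.card N₁).Coprime p := by
    have : Nat.card N₁ = Nat.card N :=
      Nat.card_congr (Subgroup.subgroupOfEquivOfLe (le_normalizer)).toEquiv
    rw [this]; exact hN
  intro n hn
  have hyo' : (orderOf (⟨y, hy⟩ : M)).Coprime p := by rw [Subgroup.orderOf_mk]; exact hyo
  have := comm_of_normal hM N₁ hcard hyo' ⟨n, le_normalizer hn⟩ (Subgroup.mem_subgroupOf.mpr hn)
  exact congrArg Subtype.val this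

/-- One inclusion suffices for membership in the normalizer. -/
theorem mem_normalizer_of_conj_mem {H : Subgroup G} {g : G} (h : ∀ w ∈ H, g * w * g⁻¹ ∈ H) :
    g ∈ normalizer (H : Set G) := by
  rw [mem_normalizer_iff]
  intro w
  refine ⟨h w, fun hw => ?_⟩
  let c : H → H := fun a => ⟨g * a * g⁻¹, h a a.2⟩
  have hc : Function.Injective c := by
    intro a b hab
    have := congrArg Subtype.val hab
    apply Subtype.ext
    simpa [c] using this
  obtain ⟨a, ha⟩ := (Finite.injective_iff_surjective.mp hc) ⟨_, hw⟩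
  have := congrArg Subtype.val ha
  have h2 : (a : G) = w := by simpa [c] using this
  rw [← h2]
  exact a.2

/-- In a cyclic subgroup, elements of the same order generate the same subgroup. -/
theorem mem_zpowers_of_orderOf_eq {P : Subgroup G} (hc : IsCyclic P) {a b : G} (ha : a ∈ P)
    (hb : b ∈ P) (hab : orderOf b = orderOf a) : b ∈ zpowers a := by
  classical
  haveI := Fintype.ofFinite G
  haveI : Fintype P := Fintype.ofFinite _
  have hn : 0 < orderOf a := orderOf_pos a
  have hle := IsCyclic.card_pow_eq_one_le (α := P) (n := orderOf a) hn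
  let a' : P := ⟨a, ha⟩
  have hoa' : orderOf a' = orderOf a := (Subgroup.orderOf_coe a').symm
  let S : Finset P := Finset.univ.filter fun x => x ^ orderOf a = 1
  have hpow : (Finset.univ.filter fun x : P => x ∈ zpowers a') ⊆ S := by
    intro x hx
    simp only [Finset.mem_filter, Finset.mem_univ, true_and] at hx
    obtain ⟨i, rfl⟩ := hx
    simp only [S, Finset.mem_filter, Finset.mem_univ, true_and]
    rw [← zpow_natCast, ← zpow_mul, mul_comm, zpow_mul, zpow_natCast, ← hoa', pow_orderOf_eq_one,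
      one_zpow]
  have hcard : (Finset.univ.filter fun x : P => x ∈ zpowers a').card = orderOf a := by
    have : (Finset.univ.filter fun x : P => x ∈ zpowers a').card = Nat.card (zpowers a') := by
      rw [Nat.card_eq_fintype_card, Fintype.card_subtype]
    rw [this, Nat.card_zpowers, hoa']
  have heq := Finset.eq_of_subset_of_card_le hpow (by rw [hcard]; exact hle)
  have hbS : (⟨b, hb⟩ : P) ∈ S := by
    simp only [S, Finset.mem_filter, Finset.mem_univ, true_and]
    apply Subtype.ext
    simp only [SubmonoidClass.mk_pow, OneMemClass.coe_one]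
    rw [← hab, pow_orderOf_eq_one]
  rw [← heq] at hbS
  simp only [Finset.mem_filter, Finset.mem_univ, true_and] at hbS
  obtain ⟨i, hi⟩ := hbS
  refine ⟨i, ?_⟩
  have := congrArg Subtype.val hi
  simpa using this

namespace Sim

variable (s : Sim p G)
include s

theorem center_trivial {x : G} (hx : ∀ g, x * g = g * x) : x = 1 := by
  have hxc : x ∈ center G := by
    rw [Subgroup.mem_center_iff]
    exact fun g => (hx g).symm
  rcases s.simple (center G) inferInstance with h | h
  · rw [h] at hxc
    simpa using hxc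
  · exfalso
    apply s.nonab
    intro a b
    have : a ∈ center G := by rw [h]; trivial
    exact ((Subgroup.mem_center_iff.mp this) b).symm

theorem perfect : commutator G = ⊤ := by
  rcases s.simple (commutator G) inferInstance with h | h
  · exfalso
    apply s.nonab
    intro a b
    have h1 : ⁅a, b⁆ ∈ commutator G := by
      rw [_root_.commutator_def]
      exact Subgroup.commutator_mem_commutator (mem_top a) (mem_top b)
    rw [h, Subgroup.mem_bot] at h1
    exact commutatorElement_eq_one_iff_mul_comm.mp h1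
  · exact h

theorem nontrivial : Nontrivial G := by
  by_contra hn
  rw [not_nontrivial_iff_subsingleton] at hn
  exact s.nonab fun a b => Subsingleton.elim _ _

end Sim

/-- The transfer argument: in a perfect group, an abelian Sylow subgroup meets the centre of its
normalizer trivially. -/
theorem eq_one_of_central_in_normalizer {q : ℕ} [hq : Fact q.Prime] (hperf : commutator G = ⊤)
    (Q : Sylow q G) (hab : IsMulCommutative Q) {t : G} (ht : t ∈ (Q : Subgroup G))
    (hc : ∀ g ∈ normalizer ((Q : Subgroup G) : Set G), g * t = t * g) : t = 1 := by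
  letI : CommGroup Q := { (inferInstance : Group Q) with mul_comm := hab.is_comm.comm }
  let V : G →* Q := MonoidHom.transfer (MonoidHom.id Q)
  have hV : ∀ g, V g = 1 := by
    intro g
    have h1 := Cfsg.Agent.Lib.Transfer.Basic.commutator_le_ker_of_comm V
    rw [hperf] at h1
    exact h1 (mem_top g)
  have hkey := Cfsg.Agent.Lib.Transfer.Basic.transfer_eq_pow_of_fusion (Q : Subgroup G)
    (MonoidHom.id Q) ⟨t, ht⟩ (by
      intro k g₀ h
      apply Subtype.ext
      simp only [MonoidHom.id_apply, SubmonoidClass.mk_pow]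
      have hX : ∀ x ∈ ({t ^ k} : Set G), ∀ y ∈ (Q : Subgroup G), x * y = y * x := by
        rintro x rfl y hy
        exact comm_of hab ((Q : Subgroup G).pow_mem ht k) hy
      have hgX : ∀ x ∈ ({t ^ k} : Set G), ∀ y ∈ (Q : Subgroup G),
          (g₀⁻¹ * x * g₀⁻¹⁻¹) * y = y * (g₀⁻¹ * x * g₀⁻¹⁻¹) := by
        rintro x rfl y hy
        rw [inv_inv]
        exact comm_of hab h hy
      obtain ⟨n, hn, hnx⟩ := Cfsg.Agent.Lib.Basic.SylowUtil.burnside_fusion Q _ g₀⁻¹ hX hgX
      have h2 := hnx (t ^ k) rfl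
      rw [inv_inv] at h2
      have h3 : Commute n t := hc n hn
      have h4 : n * t ^ k * n⁻¹ = t ^ k := by
        rw [(h3.pow_right k).eq]; group
      rw [← h2, h4])
  have h5 : (⟨t, ht⟩ : Q) ^ (Q : Subgroup G).index = 1 := hkey.symm.trans (hV t)
  have h6 : t ^ (Q : Subgroup G).index = 1 := congrArg Subtype.val h5
  obtain ⟨k, hk⟩ := (IsPGroup.iff_orderOf.mp Q.isPGroup') ⟨t, ht⟩
  have hk' : orderOf t = q ^ k := (Subgroup.orderOf_mk t ht).symm.trans hk
  have h7 : orderOf t ∣ (Q : Subgroup G).index := orderOf_dvd_of_pow_eq_one h6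
  have hcop : Nat.Coprime (orderOf t) (Q : Subgroup G).index := by
    rw [hk']
    apply Nat.Coprime.pow_left
    exact (Nat.Prime.coprime_iff_not_dvd hq.out).mpr Q.not_dvd_index
  exact orderOf_eq_one_iff.mp (Nat.Coprime.eq_one_of_dvd hcop h7)

theorem not_dvd_card_sylow {q : ℕ} [hq : Fact q.Prime] (hqp : q ≠ p) (Q : Sylow q G) :
    ¬ p ∣ Nat.card Q := by
  intro hd
  obtain ⟨k, hk⟩ := IsPGroup.iff_card.mp Q.isPGroup'
  rw [hk] at hd
  exact hqp ((Nat.prime_dvd_prime_iff_eq hp.out hq.out).mp (hp.out.dvd_of_dvd_pow hd)).symm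

theorem coprime_orderOf_of_mem {q : ℕ} [hq : Fact q.Prime] (hqp : q ≠ p) (Q : Sylow q G) {t : G}
    (ht : t ∈ (Q : Subgroup G)) : (orderOf t).Coprime p := by
  have h3 : orderOf (⟨t, ht⟩ : (Q : Subgroup G)) ∣ Nat.card Q := orderOf_dvd_natCard _
  rw [Subgroup.orderOf_mk] at h3
  exact Nat.Coprime.coprime_dvd_left h3 (coprime_of_not_dvd (not_dvd_card_sylow hqp Q))

namespace Sim

variable (s : Sim p G)
include s

/-- The data attached to a non-trivial Sylow `q`-subgroup `Q`, `q ≠ p`: its normalizer is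
`A ⋊ ⟨z⟩` with `A` an abelian `p'`-group, `z` a `p`-element with `C_Q(z) = 1`. -/
theorem exists_data {q : ℕ} [hq : Fact q.Prime] (hqp : q ≠ p) (Q : Sylow q G)
    (hQ : (Q : Subgroup G) ≠ ⊥) :
    ∃ (A : Subgroup G) (z : G), (Q : Subgroup G) ≤ A ∧ ¬ p ∣ Nat.card A ∧ A ≤ NS Q ∧ z ∈ NS Q ∧
      (∃ k, orderOf z = p ^ k) ∧ (∀ t ∈ (Q : Subgroup G), z * t * z⁻¹ = t → t = 1) ∧
      (∀ g ∈ NS Q, (orderOf g).Coprime p → g ∈ A) := by
  have hQab : IsMulCommutative Q := s.hyp.ab Q (not_dvd_card_sylow hqp Q)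
  have hnt : NS Q ≠ ⊤ := by
    intro htop
    have hn : (Q : Subgroup G).Normal := normalizer_eq_top_iff.mp htop
    rcases s.simple _ hn with h | h
    · exact hQ h
    · have hpg : IsPGroup q G := by
        intro g
        obtain ⟨k, hk⟩ := Q.isPGroup' ⟨g, by rw [h]; trivial⟩
        exact ⟨k, congrArg Subtype.val hk⟩
      haveI := s.nontrivial
      haveI := hpg.center_nontrivial
      obtain ⟨c, hc1⟩ := exists_ne (1 : center G)
      apply hc1
      apply Subtype.ext
      exact s.center_trivial fun g => ((Subgroup.mem_center_iff.mp c.2) g).symm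
  have hcq : ∀ t ∈ (Q : Subgroup G), (∀ g ∈ NS Q, g * t = t * g) → t = 1 := fun t ht hc =>
    eq_one_of_central_in_normalizer s.perfect Q hQab ht hc
  rcases s.ind (NS Q) hnt with hc | ⟨T, hT⟩
  · obtain ⟨R₀, L₀, hL₀, hcompl⟩ := hc
    have h1 := Cfsg.Agent.Lib.Transfer.Basic.coprime_card_of_isComplement' hcompl
    have h2 := Cfsg.Agent.Lib.Transfer.Basic.isPGroup_quotient_of_isComplement' hcompl
    have hmem := Cfsg.Agent.Lib.Transfer.Basic.mem_iff_coprime_of_normal L₀ h1 h2
    have hcardA : Nat.card (L₀.map (NS Q).subtype) = Nat.card L₀ :=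
      Subgroup.card_map_of_injective (NS Q).subtype_injective
    have hA : ¬ p ∣ Nat.card (L₀.map (NS Q).subtype) := by
      rw [hcardA]; exact not_dvd_of_coprime h1
    have hAab := s.hyp.ab _ hA
    have hQA : (Q : Subgroup G) ≤ L₀.map (NS Q).subtype := by
      intro t ht
      refine ⟨⟨t, le_normalizer ht⟩, ?_, rfl⟩
      rw [SetLike.mem_coe, hmem, Subgroup.orderOf_mk]
      exact coprime_orderOf_of_mem hqp Q ht
    haveI := (s.hyp.sub (NS Q)).cyc R₀
    obtain ⟨z₀, hz₀⟩ := IsCyclic.exists_generator (α := R₀)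
    obtain ⟨k, hk⟩ := (IsPGroup.iff_orderOf.mp R₀.isPGroup') z₀
    refine ⟨L₀.map (NS Q).subtype, (z₀ : NS Q), hQA, hA, ?_, (z₀ : NS Q).2,
      ⟨k, ?_⟩, ?_, ?_⟩
    · rintro _ ⟨a, -, rfl⟩
      exact a.2
    · have h3 : orderOf (((z₀ : NS Q) : G)) = orderOf (z₀ : NS Q) := Subgroup.orderOf_coe _
      have h4 : orderOf (z₀ : NS Q) = orderOf z₀ := Subgroup.orderOf_coe _
      rw [h3, h4, hk]
    · intro t ht hzt
      apply hcq t ht
      intro g hg
      -- decompose
      obtain ⟨⟨l, r⟩, hlr⟩ := hcompl.existsUnique ⟨g, hg⟩ |>.exists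
      have hg' : g = ((l : NS Q) : G) * ((r : NS Q) : G) := by
        have := congrArg Subtype.val hlr
        exact this.symm
      have hl : ((l : NS Q) : G) * t = t * ((l : NS Q) : G) :=
        comm_of hAab ⟨l, l.2, rfl⟩ (hQA ht)
      have hzc : Commute (((z₀ : NS Q) : G)) t := by
        show ((z₀ : NS Q) : G) * t = t * ((z₀ : NS Q) : G)
        calc ((z₀ : NS Q) : G) * t
            = (((z₀ : NS Q) : G) * t * ((z₀ : NS Q) : G)⁻¹) * ((z₀ : NS Q) : G) := by group
          _ = t * ((z₀ : NS Q) : G) := by rw [hzt]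
      have hr : ((r : NS Q) : G) * t = t * ((r : NS Q) : G) := by
        obtain ⟨i, hi⟩ := hz₀ r
        have : ((r : NS Q) : G) = ((z₀ : NS Q) : G) ^ i := by
          have h5 := congrArg (fun x : R₀ => ((x : NS Q) : G)) hi
          simpa using h5.symm
        rw [this]
        exact (hzc.zpow_left i).eq
      rw [hg']
      calc ((l : NS Q) : G) * ((r : NS Q) : G) * t = ((l : NS Q) : G) * (t * ((r : NS Q) : G)) := by
            rw [mul_assoc, hr]
        _ = (((l : NS Q) : G) * t) * ((r : NS Q) : G) := by group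
        _ = (t * ((l : NS Q) : G)) * ((r : NS Q) : G) := by rw [hl]
        _ = t * (((l : NS Q) : G) * ((r : NS Q) : G)) := by group
    · intro g hg hgo
      refine ⟨⟨g, hg⟩, ?_, rfl⟩
      rw [SetLike.mem_coe, hmem, Subgroup.orderOf_mk]
      exact hgo
  · -- `N(Q)` has a normal Sylow `p`-subgroup: impossible
    exfalso
    haveI hTn : (T : Subgroup (NS Q)).Normal := hT
    have hall : ∀ t ∈ (Q : Subgroup G), t = 1 := by
      intro t ht
      apply hcq t ht
      intro g hg
      obtain ⟨a, b, rfl, hcom, ha, hb, ⟨k, hk⟩, hbo⟩ :=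
        Cfsg.Agent.Lib.Transfer.Basic.exists_pPart_decomp (p := p) g
      have hle : zpowers (a * b) ≤ NS Q := zpowers_le.mpr hg
      have hb' : b * t = t * b := comm_of_normalizes s.hyp
        (coprime_of_not_dvd (not_dvd_card_sylow hqp Q)) (hle hb) hbo t ht
      have ha' : a * t = t * a := by
        have haN : a ∈ NS Q := hle ha
        have hnn : normalizer (((T : Subgroup (NS Q)) : Set (NS Q))) = ⊤ :=
          normalizer_eq_top_iff.mpr hTn
        have ha₁ : (⟨a, haN⟩ : NS Q) ∈ (T : Subgroup (NS Q)) :=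
          mem_of_mem_normalizer T
            (by show _ ∈ normalizer (((T : Subgroup (NS Q)) : Set (NS Q))); rw [hnn]; trivial)
            (by rw [Subgroup.orderOf_mk]; exact hk)
        -- the commutator lies in `T`
        have h3 : (⟨a, haN⟩ : NS Q) * ((⟨t, le_normalizer ht⟩ : NS Q) *
            (⟨a, haN⟩ : NS Q)⁻¹ * (⟨t, le_normalizer ht⟩ : NS Q)⁻¹) ∈ (T : Subgroup (NS Q)) :=
          (T : Subgroup (NS Q)).mul_mem ha₁
            (hTn.conj_mem _ ((T : Subgroup (NS Q)).inv_mem ha₁) _)
        -- the commutator lies in `Q`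
        have h4 : a * t * a⁻¹ ∈ (Q : Subgroup G) := (mem_normalizer_iff.mp haN t).1 ht
        have h5 : a * t * a⁻¹ * t⁻¹ ∈ (Q : Subgroup G) :=
          (Q : Subgroup G).mul_mem h4 ((Q : Subgroup G).inv_mem ht)
        obtain ⟨j, hj⟩ := T.isPGroup' ⟨_, h3⟩
        have hj' : (a * t * a⁻¹ * t⁻¹) ^ p ^ j = 1 := by
          have h6 := congrArg (fun x : (T : Subgroup (NS Q)) => ((x : NS Q) : G)) hj
          have h7 : a * (t * a⁻¹ * t⁻¹) = a * t * a⁻¹ * t⁻¹ := by group
          simpa [h7, mul_assoc] using h6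
        have h8 : orderOf (a * t * a⁻¹ * t⁻¹) ∣ p ^ j := orderOf_dvd_of_pow_eq_one hj'
        have h9 := coprime_orderOf_of_mem hqp Q h5
        have h10 := Nat.Coprime.eq_one_of_dvd (Nat.Coprime.pow_right j h9) h8
        have h11 := orderOf_eq_one_iff.mp h10
        calc a * t = (a * t * a⁻¹ * t⁻¹) * (t * a) := by group
          _ = t * a := by rw [h11, one_mul]
      calc a * b * t = a * (t * b) := by rw [mul_assoc, hb']
        _ = (a * t) * b := by group
        _ = (t * a) * b := by rw [ha']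
        _ = t * (a * b) := by group
    apply hQ
    rw [eq_bot_iff]
    intro t ht
    rw [Subgroup.mem_bot]
    exact hall t ht

/-- The Sylow `q`-subgroups have order `≡ 1 (mod p)`. -/
theorem card_sylow_modEq {q : ℕ} [hq : Fact q.Prime] (hqp : q ≠ p) (Q : Sylow q G) :
    Nat.card Q ≡ 1 [MOD p] := by
  classical
  by_cases hQ : (Q : Subgroup G) = ⊥
  · rw [hQ, Subgroup.card_bot]
  obtain ⟨A, z, hQA, hA, hAN, hz, ⟨k, hk⟩, hfix, -⟩ := s.exists_data hqp Q hQ
  haveI : Fintype Q := Fintype.ofFinite _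
  let f : Function.End Q := fun t => ⟨z * t * z⁻¹, (mem_normalizer_iff.mp hz t).1 t.2⟩
  have hf : ∀ (n : ℕ) (t : Q), (((f ^ n) t : Q) : G) = z ^ n * t * (z ^ n)⁻¹ := by
    intro n
    induction n with
    | zero =>
      intro t
      show ((t : Q) : G) = _
      simp
    | succ n ih =>
      intro t
      rw [pow_succ]
      show (((f ^ n) (f t) : Q) : G) = _
      rw [ih]
      show z ^ n * (z * t * z⁻¹) * (z ^ n)⁻¹ = _
      rw [pow_succ]
      group
  have hf1 : f ^ p ^ k = 1 := by
    funext t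
    apply Subtype.ext
    rw [hf, ← hk, pow_orderOf_eq_one]
    show 1 * (t : G) * 1⁻¹ = ((t : Q) : G)
    simp
  have hmod := Equiv.Perm.card_fixedPoints_modEq hf1
  have hfp : Fintype.card (Function.fixedPoints f) = 1 := by
    rw [Fintype.card_eq_one_iff]
    refine ⟨⟨1, by simp [Function.mem_fixedPoints, Function.IsFixedPt, f]⟩, ?_⟩
    rintro ⟨t, ht⟩
    apply Subtype.ext
    apply Subtype.ext
    have h1 : f t = t := ht
    have h2 := congrArg Subtype.val h1
    exact hfix t t.2 h2
  rw [hfp] at hmod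
  rw [Nat.card_eq_fintype_card]
  exact hmod

/-- The index of a Sylow `p`-subgroup is `≡ 1 (mod p)`. -/
theorem index_modEq (P : Sylow p G) : (P : Subgroup G).index ≡ 1 [MOD p] := by
  classical
  have hn : Nat.card G ≠ 0 := Nat.card_pos.ne'
  set m := (P : Subgroup G).index with hm
  have hm0 : m ≠ 0 := Subgroup.index_ne_zero_of_finite
  have hcard : p ^ (Nat.card G).factorization p * m = Nat.card G := by
    rw [← P.card_eq_multiplicity]
    exact (P : Subgroup G).card_mul_index
  have hpm : ¬ p ∣ m := P.not_dvd_index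
  have hfac : ∀ q, q ∈ m.primeFactors → m.factorization q = (Nat.card G).factorization q := by
    intro q hq
    have hq' := Nat.prime_of_mem_primeFactors hq
    have hqne : q ≠ p := by
      rintro rfl
      exact hpm (Nat.dvd_of_mem_primeFactors hq)
    rw [← hcard, Nat.factorization_mul (pow_ne_zero _ hp.out.ne_zero) hm0,
      Nat.factorization_pow, Nat.Prime.factorization hp.out]
    simp [hqne.symm]
  have hprod := Nat.prod_factorization_pow_eq_self hm0
  rw [← ZMod.natCast_eq_natCast_iff]
  rw [← hprod, Finsupp.prod, Nat.support_factorization, Nat.cast_prod, Nat.cast_one]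
  apply Finset.prod_eq_one
  intro q hq
  have hq' := Nat.prime_of_mem_primeFactors hq
  haveI : Fact q.Prime := ⟨hq'⟩
  have hqne : q ≠ p := by
    rintro rfl
    exact hpm (Nat.dvd_of_mem_primeFactors hq)
  obtain ⟨Q⟩ : Nonempty (Sylow q G) := inferInstance
  have h1 := s.card_sylow_modEq hqne Q
  rw [Q.card_eq_multiplicity, ← hfac q hq] at h1
  have h2 := (ZMod.natCast_eq_natCast_iff _ _ _).mpr h1
  simpa using h2

/-- `|N(P) : P| ≡ 1 (mod p)`. -/
theorem relIndex_modEq (P : Sylow p G) : (P : Subgroup G).relIndex (NS P) ≡ 1 [MOD p] := by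
  have h1 := Subgroup.relIndex_mul_index (le_normalizer : (P : Subgroup G) ≤ NS P)
  have h2 := s.index_modEq P
  have h3 : (NS P).index ≡ 1 [MOD p] := by
    have := card_sylow_modEq_one p G
    rwa [P.card_eq_index_normalizer] at this
  rw [← h1] at h2
  have h4 : (P : Subgroup G).relIndex (NS P) * (NS P).index ≡
      (P : Subgroup G).relIndex (NS P) * 1 [MOD p] := Nat.ModEq.mul_left _ h3
  rw [mul_one] at h4
  exact h4.symm.trans h2

end Sim

end Cfsg.Agent.Lib.CycSylow
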