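import Mathlib
import Cfsg.Agent.Lib.CycSylow.Simple

set_option autoImplicit false

/-!
# Cyclic Sylow subgroup, abelian `p'`-subgroups: the simple case, local analysis of `N(P)`
-/

namespace Cfsg.Agent.Lib.CycSylow

open Subgroup

universe u

variable {G : Type u} [Group G] [Finite G] {p : ℕ} [hp : Fact p.Prime]

omit [Finite G] hp in
theorem centralizer_le_normalizer_self {q : ℕ} (P : Sylow q G) : CS P ≤ NS P :=
  Subgroup.centralizer_le_normalizer _

theorem sylow_comm_le (h : Hyp p G) (P : Sylow p G) : (P : Subgroup G) ≤ CS P := by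
  intro a ha
  rw [mem_centralizer_iff]
  intro b hb
  exact sylow_comm h P b hb a ha

namespace Sim

variable (s : Sim p G)
include s

theorem exists_y (P : Sylow p G) : ∃ y ∈ NS P, (orderOf y).Coprime p ∧ y ∉ CS P := by
  apply exists_coprime_not_mem P (s.hyp.cyc P)
  intro hb
  exact s.ncon (Or.inl (hasComplement_of_normalizer_le P hb))

/-- Any proper subgroup containing `P` and a `p'`-element acting non-trivially normalizes `P`. -/
theorem le_normalizer_of (P : Sylow p G) {M : Subgroup G} (hM : M ≠ ⊤)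
    (hPM : (P : Subgroup G) ≤ M) {y : G} (hyM : y ∈ M) (hyN : y ∈ NS P)
    (hyo : (orderOf y).Coprime p) (hyc : y ∉ CS P) : M ≤ NS P := by
  rcases s.ind M hM with hc | ⟨T, hT⟩
  · exfalso
    obtain ⟨R₀, L₀, hL₀, hcompl⟩ := hc
    have h1 := Cfsg.Agent.Lib.Transfer.Basic.coprime_card_of_isComplement' hcompl
    have h2 := Cfsg.Agent.Lib.Transfer.Basic.isPGroup_quotient_of_isComplement' hcompl
    have hmem := Cfsg.Agent.Lib.Transfer.Basic.mem_iff_coprime_of_normal L₀ h1 h2
    have hyL : (⟨y, hyM⟩ : M) ∈ L₀ := (hmem _).2 (by rw [Subgroup.orderOf_mk]; exact hyo)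
    apply hyc
    rw [mem_centralizer_iff]
    intro v hv
    have hvM := hPM hv
    have h3 : y * v * y⁻¹ * v⁻¹ ∈ (P : Subgroup G) :=
      (P : Subgroup G).mul_mem ((mem_normalizer_iff.mp hyN v).1 hv) ((P : Subgroup G).inv_mem hv)
    have h4 : (⟨y, hyM⟩ : M) * ((⟨v, hvM⟩ : M) * (⟨y, hyM⟩ : M)⁻¹ * (⟨v, hvM⟩ : M)⁻¹) ∈ L₀ :=
      L₀.mul_mem hyL (hL₀.conj_mem _ (L₀.inv_mem hyL) _)
    have h5 : orderOf (y * v * y⁻¹ * v⁻¹) ∣ Nat.card L₀ := by
      have := orderOf_dvd_natCard (⟨_, h4⟩ : L₀)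
      rw [Subgroup.orderOf_mk] at this
      have h6 : ((⟨y, hyM⟩ : M) * ((⟨v, hvM⟩ : M) * (⟨y, hyM⟩ : M)⁻¹ * (⟨v, hvM⟩ : M)⁻¹) : M)
          = ⟨y * v * y⁻¹ * v⁻¹, M.mul_mem (M.mul_mem (M.mul_mem hyM hvM) (M.inv_mem hyM))
              (M.inv_mem hvM)⟩ := by
        apply Subtype.ext
        simp [mul_assoc]
      rw [h6, Subgroup.orderOf_mk] at this
      exact this
    obtain ⟨k, hk⟩ := (IsPGroup.iff_orderOf.mp P.isPGroup') ⟨_, h3⟩
    rw [Subgroup.orderOf_mk] at hk
    have hcop : Nat.Coprime (orderOf (y * v * y⁻¹ * v⁻¹)) (Nat.card L₀) := by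
      rw [hk]
      exact Nat.Coprime.pow_left k h1.symm
    have h7 := orderOf_eq_one_iff.mp (Nat.Coprime.eq_one_of_dvd hcop h5)
    calc v * y = (y * v * y⁻¹ * v⁻¹)⁻¹ * (y * v) := by group
      _ = y * v := by rw [h7]; simp
  · have hnn : normalizer (((T : Subgroup M) : Set M)) = ⊤ := normalizer_eq_top_iff.mpr hT
    have hPT : ∀ v (hv : v ∈ (P : Subgroup G)), (⟨v, hPM hv⟩ : M) ∈ (T : Subgroup M) := by
      intro v hv
      obtain ⟨k, hk⟩ := (IsPGroup.iff_orderOf.mp P.isPGroup') ⟨_, hv⟩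
      rw [Subgroup.orderOf_mk] at hk
      exact mem_of_mem_normalizer T
        (by show _ ∈ normalizer (((T : Subgroup M) : Set M)); rw [hnn]; trivial)
        (by rw [Subgroup.orderOf_mk]; exact hk)
    have hTp : IsPGroup p ((T : Subgroup M).map M.subtype) := T.isPGroup'.map _
    have hle : (P : Subgroup G) ≤ (T : Subgroup M).map M.subtype :=
      fun v hv => ⟨⟨v, hPM hv⟩, hPT v hv, rfl⟩
    have heq := P.is_maximal' hTp hle
    intro m hm
    apply mem_normalizer_of_conj_mem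
    intro v hv
    have hvT := hPT v hv
    have h3 : (⟨m, hm⟩ : M) * (⟨v, hPM hv⟩ : M) * (⟨m, hm⟩ : M)⁻¹ ∈ (T : Subgroup M) :=
      hT.conj_mem _ hvT _
    have h4 : m * v * m⁻¹ ∈ (T : Subgroup M).map M.subtype := ⟨_, h3, rfl⟩
    rwa [heq] at h4

theorem normalizer_zpowers_le (P : Sylow p G) {v : G} (hv : v ∈ (P : Subgroup G)) (hv1 : v ≠ 1) :
    normalizer ((zpowers v : Subgroup G) : Set G) ≤ NS P := by
  obtain ⟨y, hyN, hyo, hyc⟩ := s.exists_y P
  have hPc := s.hyp.cyc P
  refine s.le_normalizer_of P ?_ ?_ (y := y) ?_ hyN hyo hyc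
  · intro htop
    have hn : (zpowers v).Normal := normalizer_eq_top_iff.mp htop
    rcases s.simple _ hn with h | h
    · exact hv1 (zpowers_eq_bot.mp h)
    · apply s.nonab
      intro a b
      have ha : a ∈ zpowers v := by rw [h]; trivial
      have hb : b ∈ zpowers v := by rw [h]; trivial
      obtain ⟨i, rfl⟩ := ha
      obtain ⟨j, rfl⟩ := hb
      exact ((Commute.refl v).zpow_zpow i j).eq
  · intro w hw
    apply mem_normalizer_of_conj_mem
    rintro _ ⟨i, rfl⟩
    have : w * v = v * w := sylow_comm s.hyp P w hw v hv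
    have hc : Commute w (v ^ i) := (show Commute w v from this).zpow_right i
    have h2 : w * (fun x => v ^ x) i * w⁻¹ = v ^ i := by
      show w * v ^ i * w⁻¹ = v ^ i
      rw [hc.eq]; group
    rw [h2]
    exact ⟨i, rfl⟩
  · apply mem_normalizer_of_conj_mem
    rintro _ ⟨i, rfl⟩
    have h3 : y * v * y⁻¹ ∈ (P : Subgroup G) := (mem_normalizer_iff.mp hyN v).1 hv
    have h4 : y * v * y⁻¹ ∈ zpowers v :=
      mem_zpowers_of_orderOf_eq hPc hv h3 (Cfsg.Agent.Lib.Transfer.Basic.orderOf_conj_eq y v)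
    have h5 : y * (fun x => v ^ x) i * y⁻¹ = (y * v * y⁻¹) ^ i := by
      show y * v ^ i * y⁻¹ = _
      rw [← MulAut.conj_apply, map_zpow, MulAut.conj_apply]
    rw [h5]
    exact (zpowers v).zpow_mem h4 i

theorem centralizer_le_normalizer (P : Sylow p G) {v : G} (hv : v ∈ (P : Subgroup G))
    (hv1 : v ≠ 1) : centralizer ({v} : Set G) ≤ NS P := by
  refine le_trans ?_ (s.normalizer_zpowers_le P hv hv1)
  intro g hg
  apply mem_normalizer_of_conj_mem
  rintro _ ⟨i, rfl⟩
  have h1 : g * v = v * g := by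
    have := (mem_centralizer_iff.mp hg) v rfl
    exact this.symm
  have hc : Commute g (v ^ i) := (show Commute g v from h1).zpow_right i
  have h2 : g * (fun x => v ^ x) i * g⁻¹ = v ^ i := by
    show g * v ^ i * g⁻¹ = v ^ i
    rw [hc.eq]; group
  rw [h2]
  exact ⟨i, rfl⟩

/-- Sylow `p`-subgroups form a TI-family. -/
theorem eq_of_mem (P S : Sylow p G) {v : G} (hvP : v ∈ (P : Subgroup G))
    (hvS : v ∈ (S : Subgroup G)) (hv1 : v ≠ 1) : S = P := by
  have hle : (S : Subgroup G) ≤ P := by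
    intro w hw
    have h1 : w ∈ centralizer ({v} : Set G) := by
      rw [mem_centralizer_iff]
      rintro _ rfl
      exact sylow_comm s.hyp S _ hvS _ hw
    have h2 := s.centralizer_le_normalizer P hvP hv1 h1
    obtain ⟨k, hk⟩ := (IsPGroup.iff_orderOf.mp S.isPGroup') ⟨_, hw⟩
    rw [Subgroup.orderOf_mk] at hk
    exact mem_of_mem_normalizer P h2 hk
  exact Sylow.ext (S.is_maximal' P.isPGroup' hle).symm

/-- `N(P)/P` is abelian. -/
theorem commutator_mem (P : Sylow p G) {g₁ g₂ : G} (h₁ : g₁ ∈ NS P) (h₂ : g₂ ∈ NS P) :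
    g₁ * g₂ * g₁⁻¹ * g₂⁻¹ ∈ (P : Subgroup G) := by
  let M : Subgroup G := NS P
  let P₁ : Subgroup M := (P : Subgroup G).subgroupOf M
  haveI : P₁.Normal := Subgroup.normal_in_normalizer
  have hP₁ : IsPGroup p P₁ := by
    let φ : P₁ →* (P : Subgroup G) :=
      { toFun := fun x => ⟨x.1.1, x.2⟩
        map_one' := rfl
        map_mul' := fun _ _ => rfl }
    refine P.isPGroup'.of_injective φ ?_
    intro a b hab
    apply Subtype.ext
    apply Subtype.ext
    have hab' := congrArg Subtype.val hab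
    exact hab'
  have hq := (s.hyp.sub M).quot P₁ (Or.inr hP₁)
  have hidx : ¬ p ∣ Nat.card (M ⧸ P₁) := by
    rw [← Subgroup.index_eq_card]
    intro hd
    have h1 := Subgroup.relIndex_mul_index (le_normalizer : (P : Subgroup G) ≤ NS P)
    apply P.not_dvd_index
    rw [← h1]
    exact Dvd.dvd.mul_right hd _
  have htop : ¬ p ∣ Nat.card (⊤ : Subgroup (M ⧸ P₁)) := by
    rw [Subgroup.card_top]; exact hidx
  have hcomm := hq.ab ⊤ htop
  let a : M := (⟨g₂, h₂⟩ : M)⁻¹
  let b : M := (⟨g₁, h₁⟩ : M)⁻¹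
  have h3 := comm_of hcomm (mem_top ((a : M ⧸ P₁))) (mem_top ((b : M ⧸ P₁)))
  rw [← QuotientGroup.mk_mul, ← QuotientGroup.mk_mul, QuotientGroup.eq] at h3
  have h4 : (((a * b)⁻¹ * (b * a) : M) : G) ∈ (P : Subgroup G) := Subgroup.mem_subgroupOf.mp h3
  have h5 : (((a * b)⁻¹ * (b * a) : M) : G) = g₁ * g₂ * g₁⁻¹ * g₂⁻¹ := by
    simp [a, b, mul_assoc]
  rwa [h5] at h4

/-- A `p'`-element centralizing `P` is central in `N(P)`. -/
theorem central_of (P : Sylow p G) {u : G} (hu : u ∈ CS P) (huo : (orderOf u).Coprime p) :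
    ∀ g ∈ NS P, g * u = u * g := by
  intro g hg
  have huN : u ∈ NS P := centralizer_le_normalizer_self P hu
  set c := g * u * g⁻¹ * u⁻¹ with hc
  have hcP : c ∈ (P : Subgroup G) := s.commutator_mem P hg huN
  have hcu : Commute c u := (mem_centralizer_iff.mp hu c hcP)
  have h1 : g * u * g⁻¹ = c * u := by rw [hc]; group
  have h2 : (c * u) ^ orderOf u = 1 := by
    rw [← h1, ← Cfsg.Agent.Lib.Transfer.Basic.orderOf_conj_eq g u, pow_orderOf_eq_one]
  rw [hcu.mul_pow, pow_orderOf_eq_one, mul_one] at h2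
  obtain ⟨k, hk⟩ := (IsPGroup.iff_orderOf.mp P.isPGroup') ⟨c, hcP⟩
  rw [Subgroup.orderOf_mk] at hk
  have h3 : orderOf c ∣ orderOf u := orderOf_dvd_of_pow_eq_one h2
  have hcop : Nat.Coprime (orderOf c) (orderOf u) := by
    rw [hk]; exact Nat.Coprime.pow_left k huo.symm
  have h4 := orderOf_eq_one_iff.mp (Nat.Coprime.eq_one_of_dvd hcop h3)
  have h5 : g * u * g⁻¹ = u := by rw [h1, h4, one_mul]
  calc g * u = (g * u * g⁻¹) * g := by group
    _ = u * g := by rw [h5]

/-- For a non-trivial `p'`-element `u` of `C(P)`, `C(u) = N(P)`. -/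
theorem centralizer_eq (P : Sylow p G) {u : G} (hu : u ∈ CS P) (huo : (orderOf u).Coprime p)
    (hu1 : u ≠ 1) : centralizer ({u} : Set G) ≤ NS P ∧ NS P ≤ centralizer ({u} : Set G) := by
  have h2 : NS P ≤ centralizer ({u} : Set G) := by
    intro g hg
    rw [mem_centralizer_iff]
    rintro _ rfl
    exact (s.central_of P hu huo g hg).symm
  refine ⟨?_, h2⟩
  obtain ⟨y, hyN, hyo, hyc⟩ := s.exists_y P
  refine s.le_normalizer_of P ?_ (le_trans le_normalizer h2) (h2 hyN) hyN hyo hyc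
  intro htop
  apply hu1
  apply s.center_trivial
  intro g
  have : g ∈ centralizer ({u} : Set G) := by rw [htop]; trivial
  exact (mem_centralizer_iff.mp this) u rfl

/-- There is a non-trivial `p'`-element in `C(P)`. -/
theorem exists_mem_centralizer (P : Sylow p G) :
    ∃ x ∈ CS P, x ≠ 1 ∧ (orderOf x).Coprime p := by
  by_contra hno
  push Not at hno
  obtain ⟨y, hyN, hyo, hyc⟩ := s.exists_y P
  have hPc := s.hyp.cyc P
  -- `C(P) = P`
  have hCP : CS P ≤ (P : Subgroup G) := by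
    intro c hc
    obtain ⟨a, b, rfl, hcom, ha, hb, ⟨k, hk⟩, hbo⟩ :=
      Cfsg.Agent.Lib.Transfer.Basic.exists_pPart_decomp (p := p) c
    have hle : zpowers (a * b) ≤ CS P := zpowers_le.mpr hc
    have hb1 : b = 1 := by
      by_contra hb1
      exact hno b (hle hb) hb1 hbo
    rw [hb1, mul_one]
    exact mem_of_mem_normalizer P (centralizer_le_normalizer_self P (hle ha)) hk
  have hPCeq : CS P = (P : Subgroup G) := le_antisymm hCP (sylow_comm_le s.hyp P)
  -- the index divides `p - 1`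
  have key := card_dvd_of_injective _ (QuotientGroup.kerLift_injective (P : Subgroup G).normalizerMonoidHom)
  rw [normalizerMonoidHom_ker, ← index, ← relIndex] at key
  have key2 : (CS P).relIndex (NS P) ∣ Nat.card (MulAut (P : Subgroup G)) := key
  rw [hPCeq, hPc.card_mulAut] at key2
  replace key := key2
  have hb := s.relIndex_modEq P
  obtain ⟨k, hk⟩ := IsPGroup.iff_card.mp P.isPGroup'
  set b := (P : Subgroup G).relIndex (NS P) with hbdef
  have hcop : Nat.Coprime b p := by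
    apply coprime_of_not_dvd
    intro hd
    have h1 := Subgroup.relIndex_mul_index (le_normalizer : (P : Subgroup G) ≤ NS P)
    apply P.not_dvd_index
    rw [← h1]
    exact Dvd.dvd.mul_right hd _
  have hb1 : b = 1 := by
    rw [hk] at key
    rcases Nat.eq_zero_or_pos k with h0 | h0
    · rw [h0, pow_zero, Nat.totient_one] at key
      exact Nat.dvd_one.mp key
    · rw [Nat.totient_prime_pow hp.out h0] at key
      have h2 : b ∣ p - 1 :=
        Nat.Coprime.dvd_of_dvd_mul_left (Nat.Coprime.pow_right _ hcop) key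
      have hp1 : 0 < p - 1 := Nat.sub_pos_of_lt hp.out.one_lt
      have h3 : b ≤ p - 1 := Nat.le_of_dvd hp1 h2
      have hbpos : 0 < b := Nat.pos_of_ne_zero (by
        intro h0'
        rw [h0'] at h2
        have := Nat.eq_zero_of_zero_dvd h2
        omega)
      have h4 : b % p = 1 % p := hb
      rw [Nat.mod_eq_of_lt (by omega : b < p), Nat.mod_eq_of_lt hp.out.one_lt] at h4
      exact h4
  apply hyc
  have hle : NS P ≤ (P : Subgroup G) := Subgroup.relIndex_eq_one.mp hb1
  exact sylow_comm_le s.hyp P (hle hyN)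

end Sim

end Cfsg.Agent.Lib.CycSylow
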