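import Mathlib
import Cfsg.Agent.Lib.CycSylow.Local

set_option autoImplicit false

/-!
# Cyclic Sylow subgroup, abelian `p'`-subgroups: reduction to `p = 3` and a Klein four Sylow subgroup
-/

namespace Cfsg.Agent.Lib.CycSylow

open Subgroup

universe u

/-- A counting bound: the fibres of `θ` on `F` inject into `D` through `θ ∘ ζ`. -/
theorem card_le_sq {A C : Type*} [Group A] [Group C] [DecidableEq A] [DecidableEq C]
    (θ : A →* C) (ζ : A →* A) (hinj : ∀ e, θ e = 1 → θ (ζ e) = 1 → e = 1)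
    (F : Finset A) (D : Finset C) (h1 : ∀ t ∈ F, θ t ∈ D)
    (h2 : ∀ t ∈ F, ∀ t' ∈ F, θ (ζ (t * t'⁻¹)) ∈ D) : F.card ≤ D.card * D.card := by
  have hfib : ∀ c ∈ F.image θ, (F.filter (fun t => θ t = c)).card ≤ D.card := by
    intro c hc
    obtain ⟨t₀, ht₀, rfl⟩ := Finset.mem_image.mp hc
    apply Finset.card_le_card_of_injOn (fun t => θ (ζ (t * t₀⁻¹)))
    · intro t ht
      have ht' := Finset.mem_filter.mp (Finset.mem_coe.mp ht)
      exact Finset.mem_coe.mpr (h2 t ht'.1 t₀ ht₀)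
    · intro t ht t' ht' heq
      have hta := Finset.mem_filter.mp (Finset.mem_coe.mp ht)
      have htb := Finset.mem_filter.mp (Finset.mem_coe.mp ht')
      have heq' : θ (ζ (t * t₀⁻¹)) = θ (ζ (t' * t₀⁻¹)) := heq
      have he1 : θ (t * t'⁻¹) = 1 := by
        rw [map_mul, map_inv, hta.2, htb.2, mul_inv_cancel]
      have he2 : θ (ζ (t * t'⁻¹)) = 1 := by
        have : t * t'⁻¹ = (t * t₀⁻¹) * (t' * t₀⁻¹)⁻¹ := by group
        rw [this, map_mul, map_mul, map_inv, map_inv, heq', mul_inv_cancel]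
      exact mul_inv_eq_one.mp (hinj _ he1 he2)
  calc F.card ≤ D.card * (F.image θ).card := Finset.card_le_mul_card_image F D.card hfib
    _ ≤ D.card * D.card := Nat.mul_le_mul_left _ (Finset.card_le_card (by
        intro c hc
        obtain ⟨t, ht, rfl⟩ := Finset.mem_image.mp hc
        exact h1 t ht))

theorem mulAut_of_card_prime {p : ℕ} [hp : Fact p.Prime] {W : Type*} [Group W]
    (hW : Nat.card W = p) : IsCyclic (MulAut W) ∧ Nat.card (MulAut W) = p - 1 := by
  haveI : Finite W := Nat.finite_of_card_ne_zero (by rw [hW]; exact hp.out.ne_zero)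
  haveI : IsCyclic W := isCyclic_of_prime_card hW
  constructor
  · have : IsCyclic (ZMod (Nat.card W))ˣ := by rw [hW]; infer_instance
    exact isCyclic_of_injective (IsCyclic.mulAutMulEquiv W).toMonoidHom
      (IsCyclic.mulAutMulEquiv W).injective
  · rw [IsCyclic.card_mulAut, hW, Nat.totient_prime hp.out]

variable {G : Type u} [Group G] [Finite G] {p : ℕ} [hp : Fact p.Prime]

namespace Sim

variable (s : Sim p G)
include s

theorem exists_residual (P : Sylow p G) :
    p = 3 ∧ ∃ (Q : Sylow 2 G) (x t₁ : G), Nat.card Q = 4 ∧ (∀ t ∈ (Q : Subgroup G), t * t = 1) ∧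
      x ∈ (Q : Subgroup G) ∧ x ≠ 1 ∧ x ∈ CS P ∧ t₁ ∈ (Q : Subgroup G) ∧ t₁ ∉ CS P ∧
      NS P ≤ centralizer ({x} : Set G) ∧ centralizer ({x} : Set G) ≤ NS P ∧
      (∀ t ∈ (Q : Subgroup G), t ≠ 1 → ∃ g, t = g * x * g⁻¹) := by
  classical
  obtain ⟨y, hyN, hyo, hyc⟩ := s.exists_y P
  have hPc := s.hyp.cyc P
  obtain ⟨u, huC, hu1, huo⟩ := s.exists_mem_centralizer P
  obtain ⟨q, hq, hqd⟩ := Nat.exists_prime_and_dvd
    (show orderOf u ≠ 1 from fun h => hu1 (orderOf_eq_one_iff.mp h))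
  haveI hqf : Fact q.Prime := ⟨hq⟩
  obtain ⟨x, hxdef⟩ : ∃ x, x = u ^ (orderOf u / q) := ⟨_, rfl⟩
  have hxo : orderOf x = q := by
    rw [hxdef]; exact orderOf_pow_orderOf_div (orderOf_pos u).ne' hqd
  have hxC : x ∈ CS P := by rw [hxdef]; exact (CS P).pow_mem huC _
  have hx1 : x ≠ 1 := by
    intro h
    rw [h, orderOf_one] at hxo
    exact hq.one_lt.ne hxo
  have hqp : q ≠ p := by
    rintro rfl
    have : q ∣ Nat.gcd (orderOf u) q := Nat.dvd_gcd hqd dvd_rfl
    rw [huo] at this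
    exact hq.one_lt.ne' (Nat.dvd_one.mp this)
  have hxc : (orderOf x).Coprime p := by
    rw [hxo]; exact (Nat.coprime_primes hq hp.out).mpr hqp
  obtain ⟨hC1, hC2⟩ := s.centralizer_eq P hxC hxc hx1
  have hzx : IsPGroup q (zpowers x) := by
    rw [IsPGroup.iff_card, Nat.card_zpowers, hxo]
    exact ⟨1, (pow_one q).symm⟩
  obtain ⟨Q, hQ⟩ := hzx.exists_le_sylow
  have hxQ : x ∈ (Q : Subgroup G) := hQ (mem_zpowers x)
  have hQ1 : (Q : Subgroup G) ≠ ⊥ := fun h => hx1 (by rw [h] at hxQ; simpa using hxQ)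
  obtain ⟨A, z, hQA, hA, hAN, hz, ⟨k, hk⟩, hfix, hpure⟩ := s.exists_data hqp Q hQ1
  have hAab := s.hyp.ab A hA
  have hAo : ∀ a ∈ A, (orderOf a).Coprime p := by
    intro a ha
    have h3 : orderOf (⟨a, ha⟩ : A) ∣ Nat.card A := orderOf_dvd_natCard _
    rw [Subgroup.orderOf_mk] at h3
    exact Nat.Coprime.coprime_dvd_left h3 (coprime_of_not_dvd hA)
  have hxA : x ∈ A := hQA hxQ
  have hAP : A ≤ NS P := by
    intro a ha
    apply hC1
    rw [mem_centralizer_iff]
    rintro _ rfl
    exact comm_of hAab hxA ha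
  have hZN : zpowers z ≤ NS Q := zpowers_le.mpr hz
  have hZA : ∀ r ∈ zpowers z, ∀ a ∈ A, r * a * r⁻¹ ∈ A := fun r hr a ha =>
    hpure _ (mul_mem (mul_mem (hZN hr) (hAN ha)) (inv_mem (hZN hr)))
      (by rw [Cfsg.Agent.Lib.Transfer.Basic.orderOf_conj_eq]; exact hAo a ha)
  have hzz : IsPGroup p (zpowers z) := by
    rw [IsPGroup.iff_card, Nat.card_zpowers]
    exact ⟨k, hk⟩
  have hZp : ∀ r ∈ zpowers z, ∃ j, orderOf r = p ^ j := by
    intro r hr
    obtain ⟨j, hj⟩ := (IsPGroup.iff_orderOf.mp hzz) ⟨r, hr⟩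
    rw [Subgroup.orderOf_mk] at hj
    exact ⟨j, hj⟩
  have hz1 : z ≠ 1 := by
    rintro rfl
    exact hx1 (hfix x hxQ (by simp))
  have hrN : ∀ r ∈ zpowers z, r ≠ 1 → r ∉ NS P := by
    intro r hr hr1 hrN
    obtain ⟨j, hj⟩ := hZp r hr
    have hrP := mem_of_mem_normalizer P hrN hj
    obtain ⟨S, hS⟩ := hzz.exists_le_sylow
    have hSP : S = P := s.eq_of_mem P S hrP (hS hr) hr1
    have hzP : z ∈ (P : Subgroup G) := by
      rw [← hSP]; exact hS (mem_zpowers z)
    apply hx1
    apply hfix x hxQ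
    have : z * x = x * z := (mem_centralizer_iff.mp hxC) z hzP
    rw [this]; group
  have hK : ∀ u ∈ A, u ∈ CS P → u ≠ 1 → ∀ r ∈ zpowers z, r ≠ 1 → r * u * r⁻¹ ∉ CS P := by
    intro u hu huC hu1 r hr hr1 hcontra
    have hu'o := hAo _ (hZA r hr u hu)
    have hu'1 : r * u * r⁻¹ ≠ 1 := by
      intro h
      apply hu1
      have : r⁻¹ * (r * u * r⁻¹) * r = r⁻¹ * 1 * r := by rw [h]
      simpa [mul_assoc] using this
    obtain ⟨hc, -⟩ := s.centralizer_eq P hcontra hu'o hu'1
    apply hrN r hr hr1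
    apply mem_normalizer_of_conj_mem
    intro v hv
    have h1 : r * v * r⁻¹ ∈ centralizer ({r * u * r⁻¹} : Set G) := by
      rw [mem_centralizer_iff]
      rintro _ rfl
      have h3 : v * u = u * v := (mem_centralizer_iff.mp huC) v hv
      calc r * u * r⁻¹ * (r * v * r⁻¹) = r * (u * v) * r⁻¹ := by group
        _ = r * (v * u) * r⁻¹ := by rw [h3]
        _ = r * v * r⁻¹ * (r * u * r⁻¹) := by group
    have h2 := hc h1
    obtain ⟨j, hj⟩ := (IsPGroup.iff_orderOf.mp P.isPGroup') ⟨v, hv⟩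
    rw [Subgroup.orderOf_mk] at hj
    exact mem_of_mem_normalizer P h2
      (by rw [Cfsg.Agent.Lib.Transfer.Basic.orderOf_conj_eq]; exact hj)
  -- an element of order `p`
  obtain ⟨w, hwP, hwo⟩ : ∃ w ∈ (P : Subgroup G), orderOf w = p := by
    have hex : ∃ v ∈ (P : Subgroup G), v ≠ 1 := by
      by_contra hno
      push Not at hno
      apply hyc
      rw [mem_centralizer_iff]
      intro v hv
      rw [hno v hv]; group
    obtain ⟨v, hv, hv1⟩ := hex
    obtain ⟨j, hj⟩ := (IsPGroup.iff_orderOf.mp P.isPGroup') ⟨v, hv⟩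
    rw [Subgroup.orderOf_mk] at hj
    obtain ⟨b, hb, hob⟩ := exists_pow_order_p hv1 hj
    exact ⟨b, (zpowers_le.mpr hv) hb, hob⟩
  have hwcard : Nat.card (zpowers w) = p := by rw [Nat.card_zpowers, hwo]
  have hAΩ : A ≤ normalizer ((zpowers w : Subgroup G) : Set G) := by
    intro a ha
    apply mem_normalizer_of_conj_mem
    rintro _ ⟨i, rfl⟩
    have h3 : a * w * a⁻¹ ∈ (P : Subgroup G) := (mem_normalizer_iff.mp (hAP ha) w).1 hwP
    have h4 : a * w * a⁻¹ ∈ zpowers w :=
      mem_zpowers_of_orderOf_eq hPc hwP h3 (Cfsg.Agent.Lib.Transfer.Basic.orderOf_conj_eq a w)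
    have h5 : a * (fun x => w ^ x) i * a⁻¹ = (a * w * a⁻¹) ^ i := by
      show a * w ^ i * a⁻¹ = _
      rw [← MulAut.conj_apply, map_zpow, MulAut.conj_apply]
    rw [h5]
    exact (zpowers w).zpow_mem h4 i
  let θ : A →* MulAut (zpowers w) := (zpowers w).normalizerMonoidHom.comp (inclusion hAΩ)
  have hθ1 : ∀ a : A, θ a = 1 → (a : G) ∈ CS P := by
    intro a ha
    by_contra hac
    have hk' : inclusion hAΩ a ∈ (zpowers w).normalizerMonoidHom.ker := ha
    rw [normalizerMonoidHom_ker, Subgroup.mem_subgroupOf] at hk'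
    have hcw : w * a = a * w := (mem_centralizer_iff.mp hk') w (mem_zpowers w)
    have := (fpf P.isPGroup' hPc (hAP a.2) (hAo a a.2) hac).1 w hwP (by rw [← hcw]; group)
    rw [this, orderOf_one] at hwo
    exact hp.out.one_lt.ne hwo
  let ζ : A →* A :=
    { toFun := fun a => ⟨z * a * z⁻¹, hZA z (mem_zpowers z) a a.2⟩
      map_one' := by apply Subtype.ext; simp
      map_mul' := by intro a b; apply Subtype.ext; simp only [Subgroup.coe_mul]; group }
  have hζ : ∀ a : A, ((ζ a : A) : G) = z * a * z⁻¹ := fun a => rfl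
  have hinj : ∀ e : A, θ e = 1 → θ (ζ e) = 1 → e = 1 := by
    intro e h1 h2
    by_contra he
    have he' : (e : G) ≠ 1 := fun h => he (Subtype.ext h)
    exact hK e e.2 (hθ1 e h1) he' z (mem_zpowers z) hz1 (hθ1 _ h2)
  obtain ⟨hCc, hCcard⟩ := mulAut_of_card_prime (p := p) hwcard
  haveI : Finite (MulAut (zpowers w)) := by
    apply Nat.finite_of_card_ne_zero
    rw [hCcard]
    have := hp.out.one_lt
    omega
  haveI : Fintype A := Fintype.ofFinite _
  haveI : Fintype (MulAut (zpowers w)) := Fintype.ofFinite _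
  haveI : Fintype (zpowers z) := Fintype.ofFinite _
  haveI : Fintype (zpowers x) := Fintype.ofFinite _
  let T : Finset A := Finset.univ.filter fun t => t ^ q = 1
  let Cq : Finset (MulAut (zpowers w)) := Finset.univ.filter fun c => c ^ q = 1
  have hCq : Cq.card ≤ q := IsCyclic.card_pow_eq_one_le hq.pos
  have hAcomm : ∀ a b : A, a * b = b * a := hAab.is_comm.comm
  have hTle : T.card ≤ Cq.card * Cq.card := by
    apply card_le_sq θ ζ hinj T Cq
    · intro t ht
      simp only [T, Finset.mem_filter, Finset.mem_univ, true_and] at ht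
      simp only [Cq, Finset.mem_filter, Finset.mem_univ, true_and]
      rw [← map_pow, ht, map_one]
    · intro t ht t' ht'
      simp only [T, Finset.mem_filter, Finset.mem_univ, true_and] at ht ht'
      simp only [Cq, Finset.mem_filter, Finset.mem_univ, true_and]
      rw [← map_pow, ← map_pow]
      have hc : Commute t t'⁻¹ := hAcomm _ _
      rw [hc.mul_pow, ht, inv_pow, ht', inv_one, mul_one, map_one, map_one]
  -- lower bound
  have hxzp : zpowers x ≤ A := zpowers_le.mpr hxA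
  have hxzC : zpowers x ≤ CS P := zpowers_le.mpr hxC
  let φ : (zpowers z) × (zpowers x) → A := fun a =>
    ⟨(a.1 : G) * (a.2 : G) * (a.1 : G)⁻¹, hZA a.1 a.1.2 a.2 (hxzp a.2.2)⟩
  let W : Finset ((zpowers z) × (zpowers x)) :=
    Finset.univ ×ˢ (Finset.univ.filter fun u => u ≠ 1)
  have hWcard : W.card = orderOf z * (q - 1) := by
    rw [Finset.card_product, Finset.card_univ, ← Nat.card_eq_fintype_card, Nat.card_zpowers]
    congr 1
    rw [Finset.filter_ne', Finset.card_erase_of_mem (Finset.mem_univ _), Finset.card_univ,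
      ← Nat.card_eq_fintype_card, Nat.card_zpowers, hxo]
  have hφ : Set.InjOn φ (W : Set _) := by
    rintro ⟨r, u⟩ ha ⟨r', u'⟩ hb hab
    have ha' := (Finset.mem_product.mp (Finset.mem_coe.mp ha)).2
    have hu1 : u ≠ 1 := (Finset.mem_filter.mp ha').2
    have hu1' : (u : G) ≠ 1 := fun h => hu1 (Subtype.ext h)
    have hab' : (r : G) * u * (r : G)⁻¹ = (r' : G) * u' * (r' : G)⁻¹ :=
      congrArg Subtype.val hab
    have hc : ((r' : G)⁻¹ * r) * (u : G) * ((r' : G)⁻¹ * r)⁻¹ = u' := by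
      calc ((r' : G)⁻¹ * r) * (u : G) * ((r' : G)⁻¹ * r)⁻¹
          = (r' : G)⁻¹ * ((r : G) * u * (r : G)⁻¹) * r' := by group
        _ = (r' : G)⁻¹ * ((r' : G) * u' * (r' : G)⁻¹) * r' := by rw [hab']
        _ = u' := by group
    have hr : (r' : G)⁻¹ * r = 1 := by
      by_contra hne
      refine hK u (hxzp u.2) (hxzC u.2) hu1' _ ?_ hne ?_
      · exact mul_mem (inv_mem r'.2) r.2
      · rw [hc]; exact hxzC u'.2
    have hrr : (r : G) = r' := (inv_mul_eq_one.mp hr).symm
    have hrr' : r = r' := Subtype.ext hrr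
    subst hrr'
    have huu : (u : G) = u' := by
      have := hc
      simpa using this
    rw [Subtype.ext huu]
  have hφT : ∀ a ∈ W, φ a ∈ T.erase 1 := by
    rintro ⟨r, u⟩ ha
    have ha' := (Finset.mem_product.mp ha).2
    have hu1 : u ≠ 1 := (Finset.mem_filter.mp ha').2
    have hu1' : (u : G) ≠ 1 := fun h => hu1 (Subtype.ext h)
    rw [Finset.mem_erase]
    constructor
    · intro h
      have h2 : (r : G) * u * (r : G)⁻¹ = 1 := congrArg Subtype.val h
      apply hu1'
      have h3 : (r : G)⁻¹ * ((r : G) * u * (r : G)⁻¹) * r = (r : G)⁻¹ * 1 * r := by rw [h2]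
      simpa [mul_assoc] using h3
    · simp only [T, Finset.mem_filter, Finset.mem_univ, true_and]
      apply Subtype.ext
      show ((r : G) * u * (r : G)⁻¹) ^ q = 1
      have h4 : (u : G) ^ q = 1 := by
        obtain ⟨i, hi⟩ := u.2
        rw [← hi, ← zpow_natCast, ← zpow_mul, mul_comm, zpow_mul, zpow_natCast, ← hxo,
          pow_orderOf_eq_one, one_zpow]
      rw [← MulAut.conj_apply, ← map_pow, h4, map_one]
  have hlow : W.card ≤ (T.erase 1).card := Finset.card_le_card_of_injOn φ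
    (fun a ha => Finset.mem_coe.mpr (hφT a ha)) hφ
  have h1T : (1 : A) ∈ T := by
    simp only [T, Finset.mem_filter, Finset.mem_univ, true_and, one_pow]
  rw [Finset.card_erase_of_mem h1T, hWcard] at hlow
  have hTpos : 0 < T.card := Finset.card_pos.mpr ⟨1, h1T⟩
  -- `q` divides `p - 1`
  have hxA' : ∀ n : ℕ, ((⟨x, hxA⟩ : A) ^ n : A) = ⟨x ^ n, A.pow_mem hxA n⟩ := fun n => rfl
  have ht1 : θ (ζ ⟨x, hxA⟩) ≠ 1 := by
    intro h
    exact hK x hxA hxC hx1 z (mem_zpowers z) hz1 (hθ1 _ h)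
  have htq : θ (ζ ⟨x, hxA⟩) ^ q = 1 := by
    rw [← map_pow, ← map_pow, hxA']
    have : (⟨x ^ q, A.pow_mem hxA q⟩ : A) = 1 := by
      apply Subtype.ext
      show x ^ q = 1
      rw [← hxo, pow_orderOf_eq_one]
    rw [this, map_one, map_one]
  have hod := orderOf_eq_prime htq ht1
  have hqdp : q ∣ p - 1 := by
    rw [← hCcard, ← hod]
    exact orderOf_dvd_natCard _
  have hp1 : 0 < p - 1 := Nat.sub_pos_of_lt hp.out.one_lt
  have hqle : q ≤ p - 1 := Nat.le_of_dvd hp1 hqdp
  have hk0 : k ≠ 0 := by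
    rintro rfl
    rw [pow_zero, orderOf_eq_one_iff] at hk
    exact hz1 hk
  have hpk : p ≤ p ^ k := Nat.le_self_pow hk0 p
  have hq2 := hq.two_le
  have hpq : p = q + 1 := by
    have h1 : p * (q - 1) ≤ q * q - 1 := by
      calc p * (q - 1) ≤ orderOf z * (q - 1) := by
            rw [hk]; exact Nat.mul_le_mul_right _ hpk
        _ ≤ T.card - 1 := hlow
        _ ≤ Cq.card * Cq.card - 1 := Nat.sub_le_sub_right hTle 1
        _ ≤ q * q - 1 := Nat.sub_le_sub_right (Nat.mul_le_mul hCq hCq) 1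
    obtain ⟨r, rfl⟩ : ∃ r, q = r + 2 := ⟨q - 2, by omega⟩
    have h2 : (r + 2) * (r + 2) - 1 = (r + 1) * (r + 3) := by
      have : (r + 2) * (r + 2) = (r + 1) * (r + 3) + 1 := by ring
      omega
    rw [h2] at h1
    have h3 : r + 2 - 1 = r + 1 := by omega
    rw [h3, mul_comm] at h1
    have h4 := Nat.le_of_mul_le_mul_left h1 (by omega)
    omega
  have hq2' : q = 2 := by
    rcases hq.eq_two_or_odd' with h | h
    · exact h
    · rcases hp.out.eq_two_or_odd' with h' | h'
      · omega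
      · exfalso
        rw [hpq, Nat.odd_add_one] at h'
        exact h' h
  have hp3 : p = 3 := by omega
  subst hq2'
  have hz3 : orderOf z = 3 := by
    have h1 : orderOf z * 1 ≤ T.card - 1 := by simpa using hlow
    have h2 : T.card ≤ 2 * 2 := le_trans hTle (Nat.mul_le_mul hCq hCq)
    have h3 : 3 ≤ orderOf z := by rw [hk]; omega
    omega
  have hTcard : 4 ≤ T.card := by
    have h1 : orderOf z * 1 ≤ T.card - 1 := by simpa using hlow
    omega
  have hCfin : (Finset.univ : Finset (MulAut (zpowers w))).card = 2 := by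
    rw [Finset.card_univ, ← Nat.card_eq_fintype_card, hCcard]
    omega
  have hAle : (Finset.univ : Finset A).card ≤ 4 := by
    have := card_le_sq θ ζ hinj Finset.univ Finset.univ (fun _ _ => Finset.mem_univ _)
      (fun _ _ _ _ => Finset.mem_univ _)
    rw [hCfin] at this
    exact this
  have hTuniv : T = Finset.univ :=
    Finset.eq_of_subset_of_card_le (Finset.subset_univ T) (le_trans hAle hTcard)
  have hAinv : ∀ a ∈ A, a * a = 1 := by
    intro a ha
    have h1 : (⟨a, ha⟩ : A) ∈ T := by rw [hTuniv]; exact Finset.mem_univ _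
    simp only [T, Finset.mem_filter, Finset.mem_univ, true_and] at h1
    have h2 := congrArg Subtype.val h1
    rw [← sq]
    exact h2
  have hAp : IsPGroup 2 A := by
    intro a
    refine ⟨1, ?_⟩
    apply Subtype.ext
    show (a : G) ^ 2 ^ 1 = 1
    rw [pow_one, sq]
    exact hAinv a a.2
  have hQeq : A = (Q : Subgroup G) := Q.is_maximal' hAp hQA
  have hAcard : Nat.card A = 4 := by
    rw [Nat.card_eq_fintype_card, ← Finset.card_univ]
    rw [hTuniv] at hTcard
    omega
  refine ⟨hp3, Q, x, z * x * z⁻¹, ?_, ?_, hxQ, hx1, hxC, ?_, ?_, hC2, hC1, ?_⟩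
  · rw [← hQeq]; exact hAcard
  · rw [← hQeq]; exact hAinv
  · rw [← hQeq]; exact hZA z (mem_zpowers z) x hxA
  · exact hK x hxA hxC hx1 z (mem_zpowers z) hz1
  · -- all involutions of `Q` are conjugate to `x`
    intro t ht ht1
    rw [← hQeq] at ht
    let ψ : zpowers z → A := fun r => ⟨(r : G) * x * (r : G)⁻¹, hZA r r.2 x hxA⟩
    have hψ : Function.Injective ψ := by
      intro r r' hrr
      have hab : (r : G) * x * (r : G)⁻¹ = (r' : G) * x * (r' : G)⁻¹ := congrArg Subtype.val hrr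
      have hc : ((r' : G)⁻¹ * r) * x * ((r' : G)⁻¹ * r)⁻¹ = x := by
        calc ((r' : G)⁻¹ * r) * x * ((r' : G)⁻¹ * r)⁻¹
            = (r' : G)⁻¹ * ((r : G) * x * (r : G)⁻¹) * r' := by group
          _ = (r' : G)⁻¹ * ((r' : G) * x * (r' : G)⁻¹) * r' := by rw [hab]
          _ = x := by group
      have hr : (r' : G)⁻¹ * r = 1 := by
        by_contra hne
        refine hK x hxA hxC hx1 _ (mul_mem (inv_mem r'.2) r.2) hne ?_
        rw [hc]; exact hxC
      exact Subtype.ext (inv_mul_eq_one.mp hr).symm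
    have him : Finset.image ψ Finset.univ = (Finset.univ : Finset A).erase 1 := by
      apply Finset.eq_of_subset_of_card_le
      · intro a ha
        obtain ⟨r, -, rfl⟩ := Finset.mem_image.mp ha
        rw [Finset.mem_erase]
        refine ⟨?_, Finset.mem_univ _⟩
        intro h
        have h2 : (r : G) * x * (r : G)⁻¹ = 1 := congrArg Subtype.val h
        apply hx1
        have h3 : (r : G)⁻¹ * ((r : G) * x * (r : G)⁻¹) * r = (r : G)⁻¹ * 1 * r := by rw [h2]
        simpa [mul_assoc] using h3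
      · rw [Finset.card_image_of_injective _ hψ, Finset.card_erase_of_mem (Finset.mem_univ _),
          Finset.card_univ, Finset.card_univ, ← Nat.card_eq_fintype_card,
          ← Nat.card_eq_fintype_card, hAcard, Nat.card_zpowers, hz3]
    have h1 : (⟨t, ht⟩ : A) ∈ (Finset.univ : Finset A).erase 1 := by
      rw [Finset.mem_erase]
      exact ⟨fun h => ht1 (congrArg Subtype.val h), Finset.mem_univ _⟩
    rw [← him] at h1
    obtain ⟨r, -, hr⟩ := Finset.mem_image.mp h1
    exact ⟨r, (congrArg Subtype.val hr).symm⟩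

end Sim

end Cfsg.Agent.Lib.CycSylow
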