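import Mathlib
import Cfsg.Agent.Lib.CycSylow.Residual
import Cfsg.Agent.Lib.CycSylow.Friend

set_option autoImplicit false

/-!
# Cyclic Sylow subgroup, abelian `p'`-subgroups: the friendship graph of involutions

In the residual configuration (`p = 3`, Klein four Sylow `2`-subgroups, centralizers of involutions
are the normalizers of Sylow `3`-subgroups), any two involutions have exactly one common commuting
involution: the commuting graph is a regular friendship graph of degree at least `3`, which does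
not exist.
-/

namespace Cfsg.Agent.Lib.CycSylow

open Subgroup

universe u

variable {G : Type u} [Group G] [Finite G] {p : ℕ} [hp : Fact p.Prime]

/-- Products of non-commuting involutions have order divisible by `p`, if all `p'`-subgroups are
abelian. -/
theorem dvd_orderOf_mul (hp2 : p ≠ 2) (h : Hyp p G) {τ σ : G} (hτ : τ * τ = 1) (hσ : σ * σ = 1)
    (hne : τ * σ ≠ σ * τ) : p ∣ orderOf (τ * σ) := by
  by_contra hnd
  have hτi : τ⁻¹ = τ := inv_eq_of_mul_eq_one_left hτ
  have hσi : σ⁻¹ = σ := inv_eq_of_mul_eq_one_left hσ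
  have hg : τ * (τ * σ) * τ = (τ * σ)⁻¹ := by
    rw [mul_inv_rev, hτi, hσi, ← mul_assoc, hτ, one_mul]
  have hinv : ∀ h ∈ zpowers (τ * σ), τ * h * τ = h⁻¹ := by
    rintro _ ⟨i, rfl⟩
    show τ * (τ * σ) ^ i * τ = ((τ * σ) ^ i)⁻¹
    have h1 : τ * (τ * σ) ^ i * τ⁻¹ = (τ * (τ * σ) * τ⁻¹) ^ i := by
      rw [← MulAut.conj_apply, ← MulAut.conj_apply, map_zpow]
    rw [hτi] at h1
    rw [h1, hg, inv_zpow]
  let H := zpowers (τ * σ)
  let D : Subgroup G :=
    { carrier := {a | a ∈ H ∨ τ * a ∈ H}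
      one_mem' := Or.inl H.one_mem
      mul_mem' := by
        rintro a b (ha | ha) (hb | hb)
        · exact Or.inl (H.mul_mem ha hb)
        · refine Or.inr ?_
          have : τ * (a * b) = (τ * a * τ) * (τ * b) := by
            calc τ * (a * b) = τ * a * (τ * τ) * b := by rw [hτ]; group
              _ = _ := by group
          rw [this, hinv a ha]
          exact H.mul_mem (H.inv_mem ha) hb
        · refine Or.inr ?_
          rw [← mul_assoc]
          exact H.mul_mem ha hb
        · refine Or.inl ?_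
          have : a * b = (τ * (τ * a) * τ) * (τ * b) := by
            calc a * b = (τ * τ) * a * (τ * τ) * b := by rw [hτ]; group
              _ = _ := by group
          rw [this, hinv _ ha]
          exact H.mul_mem (H.inv_mem ha) hb
      inv_mem' := by
        rintro a (ha | ha)
        · exact Or.inl (H.inv_mem ha)
        · refine Or.inr ?_
          have h1 := hinv _ (H.inv_mem ha)
          have h2 : τ * (τ * a)⁻¹ * τ = τ * a⁻¹ := by
            rw [mul_inv_rev, hτi, mul_assoc, mul_assoc, hτ, mul_one]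
          rw [← h2, h1, inv_inv]
          exact ha }
  have hD : ¬ p ∣ Nat.card D := by
    refine not_dvd_card_of_forall fun a ha hoa => ?_
    rcases ha with ha | ha
    · apply hnd
      have := orderOf_dvd_natCard (⟨a, ha⟩ : zpowers (τ * σ))
      rw [Nat.card_zpowers, Subgroup.orderOf_mk, hoa] at this
      exact this
    · have h1 := hinv _ ha
      have h2 : a * a = 1 := by
        have h3 : τ * (τ * a) * τ * (τ * a) = 1 := by rw [h1]; group
        calc a * a = (τ * τ) * a * (τ * τ) * a := by rw [hτ]; group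
          _ = τ * (τ * a) * τ * (τ * a) := by group
          _ = 1 := h3
      have h4 : orderOf a ∣ 2 := orderOf_dvd_of_pow_eq_one (by rw [sq]; exact h2)
      rw [hoa] at h4
      exact hp2 ((Nat.prime_dvd_prime_iff_eq hp.out Nat.prime_two).mp h4)
  have hcomm := h.ab D hD
  have hτD : τ ∈ D := Or.inr (by rw [hτ]; exact H.one_mem)
  have hσD : σ ∈ D := Or.inr (mem_zpowers _)
  exact hne (comm_of hcomm hτD hσD)

namespace Sim

variable (s : Sim p G)
include s

theorem false_of (P : Sylow p G) : False := by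
  classical
  obtain ⟨hp3, Q, x, t₁, hQcard, hQinv, hxQ, hx1, hxC, ht₁Q, ht₁C, hC2, hC1, hQconj⟩ :=
    s.exists_residual P
  have hp2 : p ≠ 2 := by omega
  -- every involution is conjugate to `x`
  have hconj : ∀ τ : G, τ * τ = 1 → τ ≠ 1 → ∃ g, τ = g * x * g⁻¹ := by
    intro τ hτ hτ1
    have hz : IsPGroup 2 (zpowers τ) := by
      rw [IsPGroup.iff_card, Nat.card_zpowers]
      refine ⟨1, ?_⟩
      rw [pow_one]
      exact orderOf_eq_prime (by rw [sq]; exact hτ) hτ1
    obtain ⟨Q', hQ'⟩ := hz.exists_le_sylow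
    obtain ⟨g, hg⟩ := MulAction.exists_smul_eq G Q Q'
    have hτQ' : τ ∈ (Q' : Subgroup G) := hQ' (mem_zpowers τ)
    rw [← hg, Cfsg.Agent.Lib.Basic.SylowUtil.coe_smul_sylow,
      Cfsg.Agent.Lib.Basic.Conj.mem_conj_smul_iff] at hτQ'
    have h1 : g⁻¹ * τ * g ≠ 1 := by
      intro h
      apply hτ1
      have : g * (g⁻¹ * τ * g) * g⁻¹ = g * 1 * g⁻¹ := by rw [h]
      simpa [mul_assoc] using this
    obtain ⟨h, hh⟩ := hQconj _ hτQ' h1
    refine ⟨g * h, ?_⟩
    calc τ = g * (g⁻¹ * τ * g) * g⁻¹ := by group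
      _ = g * (h * x * h⁻¹) * g⁻¹ := by rw [hh]
      _ = _ := by group
  -- centralizer of a conjugate of `x`
  have hmemS : ∀ g v : G, v ∈ ((g • P : Sylow p G) : Subgroup G) ↔ g⁻¹ * v * g ∈ (P : Subgroup G) := by
    intro g v
    rw [Cfsg.Agent.Lib.Basic.SylowUtil.coe_smul_sylow, Cfsg.Agent.Lib.Basic.Conj.mem_conj_smul_iff]
  -- the key uniqueness statement
  have hkey : ∀ (g v ρ : G), v ∈ ((g • P : Sylow p G) : Subgroup G) → v ≠ 1 → ρ * ρ = 1 → ρ ≠ 1 →
      ρ * v = v * ρ → ρ = g * x * g⁻¹ := by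
    intro g v ρ hv hv1 hρ hρ1 hρv
    obtain ⟨h, rfl⟩ := hconj ρ hρ hρ1
    -- `v` lies in `h • P`
    have h1 : h⁻¹ * v * h ∈ centralizer ({x} : Set G) := by
      rw [mem_centralizer_iff]
      intro a ha
      rw [show a = x from ha]
      calc x * (h⁻¹ * v * h) = h⁻¹ * ((h * x * h⁻¹) * v) * h := by group
        _ = h⁻¹ * (v * (h * x * h⁻¹)) * h := by rw [hρv]
        _ = h⁻¹ * v * h * x := by group
    have h2 := hC1 h1
    obtain ⟨j, hj⟩ := (IsPGroup.iff_orderOf.mp ((g • P : Sylow p G)).isPGroup') ⟨v, hv⟩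
    rw [Subgroup.orderOf_mk] at hj
    have h3 : h⁻¹ * v * h ∈ (P : Subgroup G) := by
      apply mem_of_mem_normalizer P h2 (k := j)
      have := Cfsg.Agent.Lib.Transfer.Basic.orderOf_conj_eq h⁻¹ v
      rw [inv_inv] at this
      rw [this, hj]
    have h4 : v ∈ ((h • P : Sylow p G) : Subgroup G) := (hmemS h v).2 h3
    have h5 : (h • P : Sylow p G) = g • P := s.eq_of_mem _ _ hv h4 hv1
    -- `g⁻¹ h` normalizes `P`
    have h6 : g⁻¹ * h ∈ NS P := by
      apply mem_normalizer_of_conj_mem
      intro w hw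
      have h7 : h * w * h⁻¹ ∈ ((h • P : Sylow p G) : Subgroup G) := by
        rw [hmemS]
        have : h⁻¹ * (h * w * h⁻¹) * h = w := by group
        rw [this]; exact hw
      rw [h5, hmemS] at h7
      have : g⁻¹ * h * w * (g⁻¹ * h)⁻¹ = g⁻¹ * (h * w * h⁻¹) * g := by group
      rw [this]; exact h7
    have h8 : (g⁻¹ * h) * x = x * (g⁻¹ * h) := (mem_centralizer_iff.mp (hC2 h6)) x rfl |>.symm
    calc h * x * h⁻¹ = g * ((g⁻¹ * h) * x) * h⁻¹ := by group
      _ = g * (x * (g⁻¹ * h)) * h⁻¹ := by rw [h8]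
      _ = g * x * g⁻¹ := by group
  have hzp2 : ∀ τ : G, τ * τ = 1 → τ ≠ 1 → orderOf τ = 2 := fun τ hτ hτ1 =>
    orderOf_eq_prime (by rw [sq]; exact hτ) hτ1
  -- commuting involutions
  have hcommuting : ∀ τ σ ρ : G, τ * τ = 1 → σ * σ = 1 → ρ * ρ = 1 → τ ≠ 1 → σ ≠ 1 → ρ ≠ 1 →
      τ ≠ σ → τ * σ = σ * τ → ρ * τ = τ * ρ → ρ * σ = σ * ρ → ρ ≠ τ → ρ ≠ σ → ρ = τ * σ := by
    intro τ σ ρ hτ hσ hρ hτ1 hσ1 hρ1 hne hc hρτ hρσ hρne1 hρne2
    have hzτ : IsPGroup 2 (zpowers τ) := by
      rw [IsPGroup.iff_card, Nat.card_zpowers, hzp2 τ hτ hτ1]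
      exact ⟨1, (pow_one 2).symm⟩
    have hzσ : IsPGroup 2 (zpowers σ) := by
      rw [IsPGroup.iff_card, Nat.card_zpowers, hzp2 σ hσ hσ1]
      exact ⟨1, (pow_one 2).symm⟩
    have hle : zpowers σ ≤ normalizer ((zpowers τ : Subgroup G) : Set G) := by
      rw [zpowers_le]
      apply mem_normalizer_of_conj_mem
      rintro _ ⟨i, rfl⟩
      have hc' : Commute σ (τ ^ i) := (show Commute σ τ from hc.symm).zpow_right i
      show σ * τ ^ i * σ⁻¹ ∈ _
      rw [hc'.eq, mul_inv_cancel_right]
      exact ⟨i, rfl⟩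
    obtain ⟨Q', hQ'⟩ := (hzτ.to_sup_of_normal_left' hzσ hle).exists_le_sylow
    have hτQ : τ ∈ (Q' : Subgroup G) := hQ' ((le_sup_left : zpowers τ ≤ _) (mem_zpowers τ))
    have hσQ : σ ∈ (Q' : Subgroup G) := hQ' ((le_sup_right : zpowers σ ≤ _) (mem_zpowers σ))
    have hcard : Nat.card Q' = 4 := by
      rw [Q'.card_eq_multiplicity, ← Q.card_eq_multiplicity]
      exact hQcard
    haveI : Fintype G := Fintype.ofFinite G
    let F : Finset G := {1, τ, σ, τ * σ}
    have hτσ1 : τ * σ ≠ 1 := by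
      intro h
      apply hne
      have := eq_inv_of_mul_eq_one_left h
      rw [this, inv_eq_of_mul_eq_one_left hσ]
    have hτστ : τ * σ ≠ τ := fun h => hσ1 (mul_left_cancel (a := τ) (by rw [h, mul_one]))
    have hτσσ : τ * σ ≠ σ := fun h => hτ1 (mul_right_cancel (b := σ) (by rw [h, one_mul]))
    have hFcard : F.card = 4 := by
      show ({1, τ, σ, τ * σ} : Finset G).card = 4
      rw [Finset.card_insert_of_notMem, Finset.card_insert_of_notMem, Finset.card_insert_of_notMem,
        Finset.card_singleton]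
      · simp only [Finset.mem_singleton]
        exact fun h => hτσσ h.symm
      · simp only [Finset.mem_insert, Finset.mem_singleton, not_or]
        exact ⟨hne, fun h => hτστ h.symm⟩
      · simp only [Finset.mem_insert, Finset.mem_singleton, not_or]
        exact ⟨hτ1.symm, hσ1.symm, hτσ1.symm⟩
    let QF : Finset G := Finset.univ.filter (· ∈ (Q' : Subgroup G))
    have hQF : QF.card = 4 := by
      rw [← hcard, Nat.card_eq_fintype_card, Fintype.card_subtype]
    have hsub : F ⊆ QF := by
      intro a ha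
      simp only [F, Finset.mem_insert, Finset.mem_singleton] at ha
      simp only [QF, Finset.mem_filter, Finset.mem_univ, true_and]
      rcases ha with rfl | rfl | rfl | rfl
      · exact (Q' : Subgroup G).one_mem
      · exact hτQ
      · exact hσQ
      · exact (Q' : Subgroup G).mul_mem hτQ hσQ
    have heq := Finset.eq_of_subset_of_card_le hsub (by rw [hFcard, hQF])
    have hρN : ρ ∈ normalizer (((Q' : Subgroup G)) : Set G) := by
      apply mem_normalizer_of_conj_mem
      intro w hw
      have hwF : w ∈ F := by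
        rw [heq]
        simp only [QF, Finset.mem_filter, Finset.mem_univ, true_and]
        exact hw
      have hρw : ρ * w = w * ρ := by
        simp only [F, Finset.mem_insert, Finset.mem_singleton] at hwF
        rcases hwF with rfl | rfl | rfl | rfl
        · group
        · exact hρτ
        · exact hρσ
        · calc ρ * (τ * σ) = (ρ * τ) * σ := by group
            _ = τ * (ρ * σ) := by rw [hρτ]; group
            _ = τ * (σ * ρ) := by rw [hρσ]
            _ = τ * σ * ρ := by group
      rw [hρw, mul_inv_cancel_right]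
      exact hw
    have hρQ : ρ ∈ (Q' : Subgroup G) := mem_of_mem_normalizer Q' hρN
      (k := 1) (by rw [pow_one]; exact hzp2 ρ hρ hρ1)
    have hρF : ρ ∈ F := by
      rw [heq]
      simp only [QF, Finset.mem_filter, Finset.mem_univ, true_and]
      exact hρQ
    simp only [F, Finset.mem_insert, Finset.mem_singleton] at hρF
    rcases hρF with h | h | h | h
    · exact absurd h hρ1
    · exact absurd h hρne1
    · exact absurd h hρne2
    · exact h
  -- the graph
  let V : Type u := {τ : G // τ * τ = 1 ∧ τ ≠ 1}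
  let Γ : SimpleGraph V :=
    { Adj := fun a b => a ≠ b ∧ a.1 * b.1 = b.1 * a.1
      symm := ⟨fun a b h => ⟨h.1.symm, h.2.symm⟩⟩
      loopless := ⟨fun a h => h.1 rfl⟩ }
  haveI : Fintype V := Fintype.ofFinite _
  haveI : DecidableRel Γ.Adj := Classical.decRel _
  -- the conjugates
  have hNSconj : ∀ (g a : G), a ∈ NS (g • P) → a * (g * x * g⁻¹) = (g * x * g⁻¹) * a := by
    intro g a ha
    have h1 : g⁻¹ * a * g ∈ NS P := by
      apply mem_normalizer_of_conj_mem
      intro v hv
      have h2 : g * v * g⁻¹ ∈ ((g • P : Sylow p G) : Subgroup G) := by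
        rw [hmemS]
        have : g⁻¹ * (g * v * g⁻¹) * g = v := by group
        rw [this]; exact hv
      have h3 := (mem_normalizer_iff.mp ha _).1 h2
      rw [hmemS] at h3
      have : g⁻¹ * a * g * v * (g⁻¹ * a * g)⁻¹ = g⁻¹ * (a * (g * v * g⁻¹) * a⁻¹) * g := by group
      rw [this]; exact h3
    have h2 : (g⁻¹ * a * g) * x = x * (g⁻¹ * a * g) := ((mem_centralizer_iff.mp (hC2 h1)) x rfl).symm
    calc a * (g * x * g⁻¹) = g * ((g⁻¹ * a * g) * x) * g⁻¹ := by group
      _ = g * (x * (g⁻¹ * a * g)) * g⁻¹ := by rw [h2]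
      _ = (g * x * g⁻¹) * a := by group
  have hxinv : x * x = 1 := hQinv x hxQ
  have hkinv : ∀ g : G, (g * x * g⁻¹) * (g * x * g⁻¹) = 1 := by
    intro g
    calc (g * x * g⁻¹) * (g * x * g⁻¹) = g * (x * x) * g⁻¹ := by group
      _ = 1 := by rw [hxinv]; group
  have hk1 : ∀ g : G, g * x * g⁻¹ ≠ 1 := by
    intro g h
    apply hx1
    have : g⁻¹ * (g * x * g⁻¹) * g = g⁻¹ * 1 * g := by rw [h]
    simpa [mul_assoc] using this
  have hFr : Friend.IsFr Γ := by
    intro a b hab
    rw [Finset.card_eq_one]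
    by_cases hc : a.1 * b.1 = b.1 * a.1
    · -- commuting case
      have hne : a.1 ≠ b.1 := fun h => hab (Subtype.ext h)
      have hprod : (a.1 * b.1) * (a.1 * b.1) = 1 := by
        calc (a.1 * b.1) * (a.1 * b.1) = a.1 * (b.1 * a.1) * b.1 := by group
          _ = a.1 * (a.1 * b.1) * b.1 := by rw [hc]
          _ = (a.1 * a.1) * (b.1 * b.1) := by group
          _ = 1 := by rw [a.2.1, b.2.1, one_mul]
      have hprod1 : a.1 * b.1 ≠ 1 := by
        intro h
        apply hne
        have := eq_inv_of_mul_eq_one_left h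
        rw [this, inv_eq_of_mul_eq_one_left b.2.1]
      refine ⟨⟨a.1 * b.1, hprod, hprod1⟩, ?_⟩
      ext y
      simp only [Finset.mem_filter, Finset.mem_univ, true_and, Finset.mem_singleton]
      constructor
      · rintro ⟨⟨h1, h2⟩, ⟨h3, h4⟩⟩
        apply Subtype.ext
        apply hcommuting a.1 b.1 y.1 a.2.1 b.2.1 y.2.1 a.2.2 b.2.2 y.2.2 hne hc h2.symm h4
        · exact fun h => h1 (Subtype.ext h.symm)
        · exact fun h => h3 (Subtype.ext h)
      · rintro rfl
        refine ⟨⟨?_, ?_⟩, ⟨?_, ?_⟩⟩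
        · intro h
          apply b.2.2
          have h1 : a.1 = a.1 * b.1 := congrArg Subtype.val h
          exact (mul_left_cancel (a := a.1) (by rw [← h1, mul_one])).symm
        · show a.1 * (a.1 * b.1) = a.1 * b.1 * a.1
          rw [mul_assoc, hc]
        · intro h
          apply a.2.2
          have h1 : a.1 * b.1 = b.1 := congrArg Subtype.val h
          exact mul_right_cancel (b := b.1) (by rw [h1, one_mul])
        · show a.1 * b.1 * b.1 = b.1 * (a.1 * b.1)
          rw [← mul_assoc b.1, ← hc]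
    · -- non-commuting case
      obtain ⟨τ, hτ, hτ1⟩ := a
      obtain ⟨σ, hσ, hσ1⟩ := b
      simp only at hc
      have hd := dvd_orderOf_mul hp2 s.hyp hτ hσ hc
      obtain ⟨w, hwdef⟩ : ∃ w, w = (τ * σ) ^ (orderOf (τ * σ) / p) := ⟨_, rfl⟩
      have hwo : orderOf w = p := by
        rw [hwdef]; exact orderOf_pow_orderOf_div (orderOf_pos _).ne' hd
      have hτi : τ⁻¹ = τ := inv_eq_of_mul_eq_one_left hτ
      have hσi : σ⁻¹ = σ := inv_eq_of_mul_eq_one_left hσ
      have hw1 : w ≠ 1 := by
        intro h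
        rw [h, orderOf_one] at hwo
        exact hp.out.one_lt.ne hwo
      have hτw : τ * w * τ⁻¹ = w⁻¹ := by
        have h1 : τ * (τ * σ) * τ⁻¹ = (τ * σ)⁻¹ := by
          rw [mul_inv_rev, hτi, hσi, ← mul_assoc, hτ, one_mul]
        rw [hwdef, ← MulAut.conj_apply, map_pow, MulAut.conj_apply, h1, inv_pow]
      have hσw : σ * w * σ⁻¹ = w⁻¹ := by
        have h1 : σ * (τ * σ) * σ⁻¹ = (τ * σ)⁻¹ := by
          rw [mul_inv_rev, hτi, hσi, mul_assoc, mul_assoc, hσ, mul_one]
        rw [hwdef, ← MulAut.conj_apply, map_pow, MulAut.conj_apply, h1, inv_pow]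
      -- the Sylow subgroup of `w`
      have hzw : IsPGroup p (zpowers w) := by
        rw [IsPGroup.iff_card, Nat.card_zpowers, hwo]
        exact ⟨1, (pow_one p).symm⟩
      obtain ⟨P', hP'⟩ := hzw.exists_le_sylow
      obtain ⟨g, rfl⟩ := MulAction.exists_smul_eq G P P'
      have hwS : w ∈ ((g • P : Sylow p G) : Subgroup G) := hP' (mem_zpowers w)
      have hnz : ∀ u : G, u * w * u⁻¹ = w⁻¹ → u ∈ NS (g • P) := by
        intro u hu
        apply s.normalizer_zpowers_le (g • P) hwS hw1
        apply mem_normalizer_of_conj_mem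
        rintro _ ⟨i, rfl⟩
        have h5 : u * (fun x => w ^ x) i * u⁻¹ = (u * w * u⁻¹) ^ i := by
          show u * w ^ i * u⁻¹ = _
          rw [← MulAut.conj_apply, map_zpow, MulAut.conj_apply]
        rw [h5, hu]
        exact (zpowers w).zpow_mem ((zpowers w).inv_mem (mem_zpowers w)) i
      have hτk := hNSconj g τ (hnz τ hτw)
      have hσk := hNSconj g σ (hnz σ hσw)
      -- `k` commutes with `w`
      have hwk : w * (g * x * g⁻¹) = (g * x * g⁻¹) * w := by
        have h1 : g⁻¹ * w * g ∈ (P : Subgroup G) := (hmemS g w).1 hwS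
        have h2 : (g⁻¹ * w * g) * x = x * (g⁻¹ * w * g) := (mem_centralizer_iff.mp hxC) _ h1
        calc w * (g * x * g⁻¹) = g * ((g⁻¹ * w * g) * x) * g⁻¹ := by group
          _ = g * (x * (g⁻¹ * w * g)) * g⁻¹ := by rw [h2]
          _ = _ := by group
      have hnot : ∀ u : G, u * w * u⁻¹ = w⁻¹ → u ≠ g * x * g⁻¹ := by
        intro u hu huk
        rw [huk, ← hwk, mul_inv_cancel_right] at hu
        -- `w = w⁻¹` is impossible
        have h1 : w * w = 1 := by
          calc w * w = w * w⁻¹ := by rw [← hu]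
            _ = 1 := mul_inv_cancel w
        have h2 : orderOf w ∣ 2 := orderOf_dvd_of_pow_eq_one (by rw [sq]; exact h1)
        rw [hwo] at h2
        exact hp2 ((Nat.prime_dvd_prime_iff_eq hp.out Nat.prime_two).mp h2)
      refine ⟨⟨g * x * g⁻¹, hkinv g, hk1 g⟩, ?_⟩
      ext ⟨y, hy, hy1⟩
      simp only [Finset.mem_filter, Finset.mem_univ, true_and, Finset.mem_singleton]
      constructor
      · rintro ⟨⟨h1, h2⟩, ⟨h3, h4⟩⟩
        simp only at h2 h4
        apply Subtype.ext
        apply hkey g w y hwS hw1 hy hy1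
        -- `y` commutes with `τσ`
        have h5 : y * (τ * σ) = (τ * σ) * y := by
          calc y * (τ * σ) = (y * τ) * σ := by group
            _ = (τ * y) * σ := by rw [h2]
            _ = τ * (y * σ) := by group
            _ = τ * (σ * y) := by rw [h4]
            _ = (τ * σ) * y := by group
        rw [hwdef]
        exact ((show Commute y (τ * σ) from h5).pow_right _).eq
      · intro h
        have hy' : y = g * x * g⁻¹ := congrArg Subtype.val h
        subst hy'
        refine ⟨⟨?_, hτk⟩, ⟨?_, hσk.symm⟩⟩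
        · intro h2
          exact hnot τ hτw (congrArg Subtype.val h2)
        · intro h2
          exact hnot σ hσw (congrArg Subtype.val h2).symm
  -- conjugation on the graph
  have hcgm : ∀ (g : G) (σ : V), (g * σ.1 * g⁻¹) * (g * σ.1 * g⁻¹) = 1 ∧ g * σ.1 * g⁻¹ ≠ 1 := by
    intro g σ
    constructor
    · calc (g * σ.1 * g⁻¹) * (g * σ.1 * g⁻¹) = g * (σ.1 * σ.1) * g⁻¹ := by group
        _ = 1 := by rw [σ.2.1]; group
    · intro h
      apply σ.2.2
      have : g⁻¹ * (g * σ.1 * g⁻¹) * g = g⁻¹ * 1 * g := by rw [h]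
      simpa [mul_assoc] using this
  let cg : G → V → V := fun g σ => ⟨g * σ.1 * g⁻¹, hcgm g σ⟩
  have hcgval : ∀ (g : G) (σ : V), (cg g σ).1 = g * σ.1 * g⁻¹ := fun _ _ => rfl
  have hcgadj : ∀ (g : G) (a b : V), Γ.Adj a b → Γ.Adj (cg g a) (cg g b) := by
    intro g a b h
    refine ⟨?_, ?_⟩
    · intro h2
      apply h.1
      apply Subtype.ext
      have h3 : g * a.1 * g⁻¹ = g * b.1 * g⁻¹ := congrArg Subtype.val h2
      exact mul_left_cancel (mul_right_cancel h3)
    · show (g * a.1 * g⁻¹) * (g * b.1 * g⁻¹) = (g * b.1 * g⁻¹) * (g * a.1 * g⁻¹)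
      have h2 : a.1 * b.1 = b.1 * a.1 := h.2
      calc (g * a.1 * g⁻¹) * (g * b.1 * g⁻¹) = g * (a.1 * b.1) * g⁻¹ := by group
        _ = g * (b.1 * a.1) * g⁻¹ := by rw [h2]
        _ = _ := by group
  have hcginv : ∀ (g : G) (σ : V), cg g (cg g⁻¹ σ) = σ := by
    intro g σ
    apply Subtype.ext
    show g * (g⁻¹ * σ.1 * g⁻¹⁻¹) * g⁻¹ = σ.1
    group
  have hcginv' : ∀ (g : G) (σ : V), cg g⁻¹ (cg g σ) = σ := by
    intro g σ
    apply Subtype.ext
    show g⁻¹ * (g * σ.1 * g⁻¹) * g⁻¹⁻¹ = σ.1
    group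
  let x₀ : V := ⟨x, hxinv, hx1⟩
  have hreg : Γ.IsRegularOfDegree (Γ.degree x₀) := by
    intro τ
    obtain ⟨g, hg⟩ := hconj τ.1 τ.2.1 τ.2.2
    have hτ : cg g x₀ = τ := Subtype.ext hg.symm
    rw [← SimpleGraph.card_neighborFinset_eq_degree, ← SimpleGraph.card_neighborFinset_eq_degree]
    refine Finset.card_bij' (fun σ _ => cg g⁻¹ σ) (fun σ _ => cg g σ) ?_ ?_ ?_ ?_
    · intro σ hσ
      rw [SimpleGraph.mem_neighborFinset] at hσ ⊢
      have := hcgadj g⁻¹ τ σ hσ
      rwa [← hτ, hcginv'] at this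
    · intro σ hσ
      rw [SimpleGraph.mem_neighborFinset] at hσ ⊢
      have := hcgadj g x₀ σ hσ
      rwa [hτ] at this
    · intro σ _
      exact hcginv g σ
    · intro σ _
      exact hcginv' g σ
  -- the degree is at least three
  have ht₁inv : t₁ * t₁ = 1 := hQinv t₁ ht₁Q
  have ht₁1 : t₁ ≠ 1 := fun h => ht₁C (by rw [h]; exact (CS P).one_mem)
  have ht₁x : t₁ ≠ x := fun h => ht₁C (by rw [h]; exact hxC)
  have hxt : x * t₁ = t₁ * x := by
    have h1 := hQinv _ ((Q : Subgroup G).mul_mem hxQ ht₁Q)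
    have hxi : x⁻¹ = x := inv_eq_of_mul_eq_one_left hxinv
    have hti : t₁⁻¹ = t₁ := inv_eq_of_mul_eq_one_left ht₁inv
    calc x * t₁ = (x * t₁)⁻¹ := (inv_eq_of_mul_eq_one_left h1).symm
      _ = t₁ * x := by rw [mul_inv_rev, hxi, hti]
  obtain ⟨v, hv, hvt⟩ : ∃ v ∈ (P : Subgroup G), v * t₁ ≠ t₁ * v := by
    by_contra hno
    push Not at hno
    apply ht₁C
    rw [mem_centralizer_iff]
    exact fun v hv => hno v hv
  have ht₁N : t₁ ∈ NS P := by
    apply hC1
    rw [mem_centralizer_iff]
    intro a ha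
    rw [show a = x from ha]
    exact hxt
  have hvx : v * x = x * v := (mem_centralizer_iff.mp hxC) v hv
  let a₁ : V := ⟨t₁, ht₁inv, ht₁1⟩
  have ha₂ : (x * t₁) * (x * t₁) = 1 ∧ x * t₁ ≠ 1 := by
    constructor
    · exact hQinv _ ((Q : Subgroup G).mul_mem hxQ ht₁Q)
    · intro h
      apply ht₁x
      have hxi : x⁻¹ = x := inv_eq_of_mul_eq_one_left hxinv
      have := eq_inv_of_mul_eq_one_right h
      rw [this, hxi]
  let a₂ : V := ⟨x * t₁, ha₂⟩
  let a₃ : V := cg v a₁
  have hval3 : a₃.1 = v * t₁ * v⁻¹ := rfl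
  have hx03 : x₀.1 * a₃.1 = a₃.1 * x₀.1 := by
    rw [hval3]
    show x * (v * t₁ * v⁻¹) = v * t₁ * v⁻¹ * x
    calc x * (v * t₁ * v⁻¹) = (x * v) * t₁ * v⁻¹ := by group
      _ = v * (x * t₁) * v⁻¹ := by rw [← hvx]; group
      _ = v * (t₁ * x) * v⁻¹ := by rw [hxt]
      _ = v * t₁ * (x * v⁻¹) := by group
      _ = v * t₁ * (v⁻¹ * x) := by
        have : x * v⁻¹ = v⁻¹ * x := by
          calc x * v⁻¹ = v⁻¹ * (v * x) * v⁻¹ := by group
            _ = v⁻¹ * (x * v) * v⁻¹ := by rw [hvx]
            _ = v⁻¹ * x := by group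
        rw [this]
      _ = _ := by group
  have hxP : x ∉ (P : Subgroup G) := by
    intro hxP
    obtain ⟨j, hj⟩ := (IsPGroup.iff_orderOf.mp P.isPGroup') ⟨x, hxP⟩
    rw [Subgroup.orderOf_mk, hzp2 x hxinv hx1] at hj
    have h2 : 2 ∣ p ^ j := by rw [← hj]
    have h3 := (Nat.prime_dvd_prime_iff_eq Nat.prime_two hp.out).mp (Nat.prime_two.dvd_of_dvd_pow h2)
    exact hp2 h3.symm
  have hdeg : 3 ≤ Γ.degree x₀ := by
    rw [← SimpleGraph.card_neighborFinset_eq_degree]
    have hsub : ({a₁, a₂, a₃} : Finset V) ⊆ Γ.neighborFinset x₀ := by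
      intro a ha
      simp only [Finset.mem_insert, Finset.mem_singleton] at ha
      rw [SimpleGraph.mem_neighborFinset]
      rcases ha with rfl | rfl | rfl
      · exact ⟨fun h => ht₁x (congrArg Subtype.val h).symm, hxt⟩
      · refine ⟨fun h => ht₁1 ?_, ?_⟩
        · have h1 : x = x * t₁ := congrArg Subtype.val h
          exact (mul_left_cancel (a := x) (by rw [← h1, mul_one])).symm
        · show x * (x * t₁) = x * t₁ * x
          rw [mul_assoc, hxt]
      · refine ⟨?_, hx03⟩
        intro h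
        apply ht₁x
        have h1 : x = v * t₁ * v⁻¹ := congrArg Subtype.val h
        have h2 : v⁻¹ * x * v = t₁ := by rw [h1]; group
        rw [← h2]
        calc v⁻¹ * x * v = v⁻¹ * (x * v) := by group
          _ = v⁻¹ * (v * x) := by rw [hvx]
          _ = x := by group
    have hcard : ({a₁, a₂, a₃} : Finset V).card = 3 := by
      rw [Finset.card_eq_three]
      refine ⟨a₁, a₂, a₃, ?_, ?_, ?_, rfl⟩
      · intro h
        apply hx1
        have h1 : t₁ = x * t₁ := congrArg Subtype.val h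
        exact mul_right_cancel (b := t₁) (by rw [← h1, one_mul])
      · intro h
        apply hvt
        have h1 : t₁ = v * t₁ * v⁻¹ := congrArg Subtype.val h
        calc v * t₁ = (v * t₁ * v⁻¹) * v := by group
          _ = t₁ * v := by rw [← h1]
      · intro h
        have h1 : x * t₁ = v * t₁ * v⁻¹ := congrArg Subtype.val h
        apply hxP
        have h2 : x = v * (t₁ * v⁻¹ * t₁⁻¹) := by
          calc x = (x * t₁) * t₁⁻¹ := by group
            _ = (v * t₁ * v⁻¹) * t₁⁻¹ := by rw [h1]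
            _ = _ := by group
        rw [h2]
        exact (P : Subgroup G).mul_mem hv
          ((mem_normalizer_iff.mp ht₁N _).1 ((P : Subgroup G).inv_mem hv))
    calc 3 = ({a₁, a₂, a₃} : Finset V).card := hcard.symm
      _ ≤ _ := Finset.card_le_card hsub
  haveI : Nonempty V := ⟨x₀⟩
  exact Friend.false_of_three_le hFr hreg hdeg

end Sim

/-- The main theorem: cyclic Sylow `p`-subgroups and abelian `p'`-subgroups imply a normal
`p`-complement or a normal Sylow `p`-subgroup. -/
theorem main {G : Type u} [Group G] [Finite G] (h : Hyp p G) : Con p G := by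
  induction' hn : Nat.card G using Nat.strong_induction_on with n ih generalizing G
  subst hn
  have hlt : ∀ N : Subgroup G, N ≠ ⊥ → Nat.card (G ⧸ N) < Nat.card G := by
    intro N hN
    rw [← Subgroup.index_eq_card]
    have h1 := N.card_mul_index
    have h2 : 1 < Nat.card N := by
      rw [Subgroup.one_lt_card_iff_ne_bot]
      exact hN
    have h3 : 0 < N.index := Nat.pos_of_ne_zero Subgroup.index_ne_zero_of_finite
    nlinarith
  have hsub : ∀ M : Subgroup G, M ≠ ⊤ → Con p M := by
    intro M hM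
    refine ih _ ?_ (h.sub M) rfl
    have h3 := M.card_mul_index
    have h4 : 1 < M.index := Subgroup.one_lt_index_of_ne_top hM
    have h5 : 0 < Nat.card M := Nat.card_pos
    nlinarith
  -- normal subgroups of order prime to `p` or `p`-groups
  have h1 : ∀ N : Subgroup G, N.Normal → N ≠ ⊥ → (Nat.card N).Coprime p → Con p G := by
    intro N hN hN1 hc
    exact con_of_quot_coprime h N hc (ih _ (hlt N hN1) (h.quot N (Or.inl hc)) rfl)
  have h2 : ∀ N : Subgroup G, N.Normal → N ≠ ⊥ → IsPGroup p N → Con p G := by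
    intro N hN hN1 hc
    exact con_of_quot_pgroup h N hc hN1 (ih _ (hlt N hN1) (h.quot N (Or.inr hc)) rfl)
  by_contra hncon
  by_cases hab : ∀ a b : G, a * b = b * a
  · apply hncon
    right
    obtain ⟨P⟩ : Nonempty (Sylow p G) := inferInstance
    refine ⟨P, ⟨fun v hv g => ?_⟩⟩
    rw [hab g v, mul_inv_cancel_right]
    exact hv
  have hsimple : ∀ N : Subgroup G, N.Normal → N = ⊥ ∨ N = ⊤ := by
    intro N hN
    by_contra hno
    push Not at hno
    obtain ⟨hN1, hN2⟩ := hno
    apply hncon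
    rcases hsub N hN2 with hc | ⟨T, hT⟩
    · -- `N` has a normal `p`-complement `L`, which is normal in `G`
      obtain ⟨L, hL, hLc, hLp⟩ := Cfsg.Agent.Lib.Transfer.Basic.hasNormalPComplement_iff.mp hc
      have hmem := Cfsg.Agent.Lib.Transfer.Basic.mem_iff_coprime_of_normal L hLc hLp
      have hLn : (L.map N.subtype).Normal := by
        constructor
        rintro _ ⟨l, hl, rfl⟩ g
        have hgN : g * (l : G) * g⁻¹ ∈ N := hN.conj_mem _ l.2 g
        refine ⟨⟨_, hgN⟩, ?_, rfl⟩
        rw [SetLike.mem_coe, hmem, Subgroup.orderOf_mk,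
          Cfsg.Agent.Lib.Transfer.Basic.orderOf_conj_eq, Subgroup.orderOf_coe]
        exact (hmem l).1 hl
      by_cases hL1 : L.map N.subtype = ⊥
      · -- `N` is a `p`-group
        have hLb : L = ⊥ := by
          rw [eq_bot_iff]
          intro l hl
          have : (l : G) ∈ L.map N.subtype := ⟨l, hl, rfl⟩
          rw [hL1, Subgroup.mem_bot] at this
          rw [Subgroup.mem_bot]
          exact Subtype.ext this
        refine h2 N hN hN1 ?_
        intro x
        obtain ⟨k, hk⟩ := hLp (x : N ⧸ L)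
        refine ⟨k, ?_⟩
        rw [← QuotientGroup.mk_pow, QuotientGroup.eq_one_iff, hLb, Subgroup.mem_bot] at hk
        exact hk
      · refine h1 _ hLn hL1 ?_
        rwa [Subgroup.card_map_of_injective N.subtype_injective]
    · -- `N` has a normal Sylow `p`-subgroup
      have hTp : IsPGroup p ((T : Subgroup N).map N.subtype) := T.isPGroup'.map _
      have hTmem : ∀ x : N, x ∈ (T : Subgroup N) ↔ ∃ k, orderOf x = p ^ k := by
        intro x
        constructor
        · intro hx
          obtain ⟨k, hk⟩ := (IsPGroup.iff_orderOf.mp T.isPGroup') ⟨x, hx⟩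
          rw [Subgroup.orderOf_mk] at hk
          exact ⟨k, hk⟩
        · rintro ⟨k, hk⟩
          have hnn : normalizer (((T : Subgroup N) : Set N)) = ⊤ := normalizer_eq_top_iff.mpr hT
          exact mem_of_mem_normalizer T
            (by show _ ∈ normalizer (((T : Subgroup N) : Set N)); rw [hnn]; trivial) hk
      have hTn : ((T : Subgroup N).map N.subtype).Normal := by
        constructor
        rintro _ ⟨l, hl, rfl⟩ g
        have hgN : g * (l : G) * g⁻¹ ∈ N := hN.conj_mem _ l.2 g
        refine ⟨⟨_, hgN⟩, ?_, rfl⟩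
        rw [SetLike.mem_coe, hTmem, Subgroup.orderOf_mk,
          Cfsg.Agent.Lib.Transfer.Basic.orderOf_conj_eq, Subgroup.orderOf_coe]
        exact (hTmem l).1 hl
      by_cases hT1 : (T : Subgroup N).map N.subtype = ⊥
      · -- `N` is a `p'`-group
        have hTb : (T : Subgroup N) = ⊥ := by
          rw [eq_bot_iff]
          intro l hl
          have : (l : G) ∈ (T : Subgroup N).map N.subtype := ⟨l, hl, rfl⟩
          rw [hT1, Subgroup.mem_bot] at this
          rw [Subgroup.mem_bot]
          exact Subtype.ext this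
        refine h1 N hN hN1 ?_
        apply coprime_of_not_dvd
        intro hd
        apply T.not_dvd_index
        rw [hTb, Subgroup.index_bot]
        exact hd
      · exact h2 _ hTn hT1 hTp
  obtain ⟨P⟩ : Nonempty (Sylow p G) := inferInstance
  exact Sim.false_of ⟨h, hsub, hsimple, hab, hncon⟩ P

end Cfsg.Agent.Lib.CycSylow
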